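import Groth.Agent.Swap65.Chart

/-! The dual line bundle as an open subscheme of the projective closure. -/

set_option autoImplicit false
noncomputable section

universe u

open CategoryTheory CategoryTheory.Limits AlgebraicGeometry TopologicalSpace Opposite
open RelProj RelCone
open Groth.Agent.Props

namespace Groth.Agent.Swap65

variable {Y : Scheme.{u}} {L L' : Y.Modules} [L.IsQuasicoherent] [L'.IsQuasicoherent] {𝒮 𝒮h : QCGrAlg Y}
  {j : L ⟶ 𝒮.toModule}
  (hS : IsGrSymAlg L 𝒮 j) {ι : 𝒮.toQCAlg ⟶ 𝒮h.toQCAlg} {z : 𝒮h.presheaf.obj (op ⊤)}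
  (hz : IsPolyOver 𝒮 𝒮h ι z) {𝒜 : RelSpec.QCAlg Y} {j' : L' ⟶ 𝒜.toModule}
  (hA : RelSpec.IsSymAlg L' 𝒜 j')

variable {W : Y.Opens} (hW : IsAffineOpen W) {e : Γ(L, W)} (he : GenLocus.IsGen L W e) {e' : Γ(L', W)}
  (he' : GenLocus.IsGen L' W e')

/-- `𝒜(W) → 𝒮h(W)`, the coordinate of `L'` going to `z`. -/
def phiA : (𝒜.presheaf.obj (op W) : Type u) →+* 𝒮h.presheaf.obj (op W) :=
  (Polynomial.eval₂RingHom (𝒮h.str.app (op W)).hom (restrictTop 𝒮h z W)).comp
    (RingEquiv.ofBijective _ (DirImgInt65.polyHom_bijective hA hW he')).symm.toRingHom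

lemma phiA_polyHom (p : Polynomial Γ(Y, W)) :
    phiA (𝒮h := 𝒮h) (z := z) hA hW he' (DirImgInt65.polyHom j' e' p) =
      Polynomial.eval₂ (𝒮h.str.app (op W)).hom (restrictTop 𝒮h z W) p :=
  congrArg _ ((RingEquiv.ofBijective _ (DirImgInt65.polyHom_bijective hA hW he')).symm_apply_apply p)

lemma phiA_str (r : Γ(Y, W)) :
    phiA (𝒮h := 𝒮h) (z := z) hA hW he' ((𝒜.str.app (op W)).hom r) = (𝒮h.str.app (op W)).hom r := by
  have h := phiA_polyHom (𝒮h := 𝒮h) (z := z) hA hW he' (Polynomial.C r)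
  simpa [DirImgInt65.polyHom] using h

lemma phiA_gen : phiA (𝒮h := 𝒮h) (z := z) hA hW he' (j'.app W e') = restrictTop 𝒮h z W := by
  have h := phiA_polyHom (𝒮h := 𝒮h) (z := z) hA hW he' Polynomial.X
  simpa [DirImgInt65.polyHom] using h

include hS hz he in
lemma bij_phiA :
    Function.Bijective (Polynomial.eval₂RingHom (phiA (𝒮h := 𝒮h) (z := z) hA hW he') (xh j ι e)) := by
  let ε := RingEquiv.ofBijective _ (DirImgInt65.polyHom_bijective hA hW he')
  have h : ((Polynomial.eval₂RingHom (phiA (𝒮h := 𝒮h) (z := z) hA hW he') (xh j ι e)).comp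
      (Polynomial.mapEquiv ε).toRingHom) =
      Polynomial.eval₂RingHom (Polynomial.eval₂RingHom (𝒮h.str.app (op W)).hom (restrictTop 𝒮h z W)) (xh j ι e) := by
    refine Polynomial.ringHom_ext' (Polynomial.ringHom_ext (fun a => ?_) ?_) ?_ <;>
      simp [ε, DirImgInt65.polyHom, phiA_str, phiA_gen]
  have hb : Function.Bijective ((Polynomial.eval₂RingHom (phiA (𝒮h := 𝒮h) (z := z) hA hW he') (xh j ι e)).comp
      (Polynomial.mapEquiv ε).toRingHom) := by
    rw [h]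
    exact (bij2_chart hS hz hW he).swap
  exact (Function.Bijective.of_comp_iff _ (Polynomial.mapEquiv ε).bijective).1 hb

/-- Setting the coordinate of `L` to one. -/
def evalX : (𝒮h.presheaf.obj (op W) : Type u) →+* 𝒜.presheaf.obj (op W) :=
  RelConeLib.evalAtOne (bij_phiA hS hz hA hW he he')

lemma evalX_str (r : Γ(Y, W)) :
    evalX hS hz hA hW he he' ((𝒮h.str.app (op W)).hom r) = (𝒜.str.app (op W)).hom r := by
  rw [evalX, ← phiA_str (z := z) hA hW he' r]
  exact RelConeLib.evalAtOne_map _ _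

lemma evalX_x : evalX hS hz hA hW he he' (xh j ι e) = 1 := RelConeLib.evalAtOne_self _

lemma evalX_z : evalX hS hz hA hW he he' (restrictTop 𝒮h z W) = j'.app W e' := by
  rw [evalX, ← phiA_gen (z := z) hA hW he']
  exact RelConeLib.evalAtOne_map _ _

/-- One chart of the open immersion. -/
def dualChart : Spec (𝒜.presheaf.obj (op W)) ⟶ Proj (𝒮h.deg W hW) :=
  RelConeLib.coneChart (𝒮h.deg W hW) (evalX hS hz hA hW he he') (evalX_x hS hz hA hW he he') (xh_mem hS hz hW e)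

lemma bijective_awayTo_dual :
    Function.Bijective (RelConeLib.awayTo (ℬ := 𝒮h.deg W hW) (evalX hS hz hA hW he he') (evalX_x hS hz hA hW he he')) :=
  RelConeLib.bijective_awayTo (bij_phiA hS hz hA hW he he') (xh_mem hS hz hW e)

lemma isOpenImmersion_dualChart : IsOpenImmersion (dualChart hS hz hA hW he he') :=
  RelConeLib.isOpenImmersion_coneChart _ _ _ (bijective_awayTo_dual hS hz hA hW he he')

lemma range_dualChart :
    Set.range (dualChart hS hz hA hW he he') = (Proj.basicOpen (𝒮h.deg W hW) (xh j ι e) : Set (Proj (𝒮h.deg W hW))) :=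
  RelConeLib.range_coneChart _ _ _ (bijective_awayTo_dual hS hz hA hW he he')

lemma dualChart_toSpec :
    dualChart hS hz hA hW he he' ≫ Proj.toSpecZero (𝒮h.deg W hW) ≫ Spec.map (𝒮h.strZero W hW) =
      Spec.map (𝒜.str.app (op W)) := by
  unfold dualChart RelConeLib.coneChart
  rw [Category.assoc, Proj.awayι_toSpecZero_assoc]
  simp only [← Spec.map_comp]
  congr 1
  refine CommRingCat.hom_ext (RingHom.ext fun r => ?_)
  show RelConeLib.awayTo _ (evalX_x hS hz hA hW he he')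
    (HomogeneousLocalization.fromZeroRingHom _ _ ((𝒮h.strZero W hW).hom r)) = _
  rw [RelConeLib.awayTo_fromZero _ _ (xh_mem hS hz hW e), QCGrAlg.strZero_apply_coe]
  exact evalX_str hS hz hA hW he he' r

lemma dualChart_trans {f : Γ(L, W)} (hf : GenLocus.IsGen L W f) {f' : Γ(L', W)} (hf' : GenLocus.IsGen L' W f')
    {u v : Γ(Y, W)} (huv : u * v = 1) (h1 : f = u • e) (h2 : f' = v • e') :
    dualChart hS hz hA hW he he' = dualChart hS hz hA hW hf hf' := by
  subst h1 h2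
  let s := (𝒮h.str.app (op W)).hom
  let t := (𝒜.str.app (op W)).hom
  have ht : t v * t u = 1 := by rw [← map_mul, mul_comm, huv, map_one]
  refine coneChart_eq_of_scale _ _ _ _ _ _ (𝒮h.str_mem W hW u) (xh_smul (ι := ι) u e) fun n b hb => ?_
  refine (bij2_chart hS hz hW he).deg_induction (𝒮h.str_mem W hW) (xh_mem hS hz hW e) (hz.deg_z W hW)
    (P := fun b => evalX hS hz hA hW hf hf' (b * s u ^ n) = evalX hS hz hA hW he he' b)
    (by simp) (fun a b ha hb => by rw [add_mul, map_add, map_add, ha, hb]) (fun r m k hmk => ?_) hb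
  let ja : (𝒜.presheaf.obj (op W) : Type u) := j'.app W e'
  have e2 : (show (𝒜.presheaf.obj (op W) : Type u) from j'.app W (v • e')) = t v * ja :=
    Scheme.Modules.Hom.app_smul j' v e'
  rw [show s r * xh j ι e ^ m * restrictTop 𝒮h z W ^ k * s u ^ n =
      s r * xh j ι (u • e) ^ m * (restrictTop 𝒮h z W * s u) ^ k by rw [xh_smul, ← hmk, pow_add, mul_pow, mul_pow]; ring]
  simp only [s, map_mul, map_pow, evalX_str, evalX_x, evalX_z, one_pow, mul_one]
  congr 2
  show (show (𝒜.presheaf.obj (op W) : Type u) from j'.app W (v • e')) * t u = ja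
  rw [e2, mul_right_comm, ht, one_mul]

variable {V : Y.Opens} (hV : IsAffineOpen V) (h : V ≤ W)

lemma dualChart_res :
    Spec.map (𝒜.presheaf.map (homOfLE h).op) ≫ dualChart hS hz hA hW he he' =
      dualChart hS hz hA hV (he.restrict h) (he'.restrict h) ≫
        Proj.map (𝒮h.res hW hV h) (RelProjLib.irrelevant_le_map_affine 𝒮h hW hV h) := by
  refine (RelConeLib.coneChart_naturality (ℬ := 𝒮h.deg W hW) (evalX hS hz hA hW he he') (evalX_x hS hz hA hW he he')
    (xh_mem hS hz hW e) (𝒮h.res hW hV h) (RelProjLib.irrelevant_le_map_affine 𝒮h hW hV h)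
    (𝒜.presheaf.map (homOfLE h).op).hom (evalX hS hz hA hV (he.restrict h) (he'.restrict h))
    (xh_mem hS hz hV (QCoh.res L h e)) (xh_res h e) (evalX_x hS hz hA hV (he.restrict h) (he'.restrict h))
    fun b => ?_).trans ?_
  · refine RingHom.congr_fun ((bij2_chart hS hz hW he).hom_ext
      (f := (𝒜.presheaf.map (homOfLE h).op).hom.comp (evalX hS hz hA hW he he'))
      (g := (evalX hS hz hA hV (he.restrict h) (he'.restrict h)).comp (𝒮h.presheaf.map (homOfLE h).op).hom)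
      (fun r => ?_) ?_ ?_) b
    · refine ((congrArg _ (evalX_str hS hz hA hW he he' r)).trans ?_).trans
        ((congrArg _ (str_res h r)).trans (evalX_str hS hz hA hV (he.restrict h) (he'.restrict h) _)).symm
      exact congr($(𝒜.str.naturality (homOfLE h).op).hom r).symm
    · exact ((congrArg _ (evalX_x hS hz hA hW he he')).trans (map_one (𝒜.presheaf.map (homOfLE h).op).hom)).trans
        ((congrArg _ (xh_res h e)).trans (evalX_x hS hz hA hV (he.restrict h) (he'.restrict h))).symm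
    · exact ((congrArg _ (evalX_z hS hz hA hW he he')).trans (QCoh.app_res j' h e').symm).trans
        ((congrArg _ (RelConeLib.restrictTop_map h)).trans (evalX_z hS hz hA hV (he.restrict h) (he'.restrict h))).symm
  · rfl

variable {PC : Scheme.{u}} {pC : PC ⟶ Y}
  {chartC : ∀ (U : Y.Opens) (hU : IsAffineOpen U), (((pC ⁻¹ᵁ U : PC.Opens) : Scheme.{u}) ≅ Proj (𝒮h.deg U hU))}
  (hPC : IsRelProj 𝒮h pC chartC)

include hS hA hPC in
theorem exists_dualIso (F : FrSys L L') :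
    ∃ e : 𝒜.spec ≅ ((pointedProjCone 𝒮 hz pC chartC : PC.Opens) : Scheme.{u}),
      e.hom ≫ (pointedProjCone 𝒮 hz pC chartC).ι ≫ pC = 𝒜.π := by
  let J := {a : Σ W : Y.Opens, Γ(L, W) × Γ(L', W) // IsAffineOpen a.1 ∧ F.P a.1 a.2.1 a.2.2}
  have hcov : ∀ x : Y, ∃ a : J, x ∈ a.1.1 := fun x => by
    obtain ⟨W, hW, e, e', hx, hP⟩ := F.cover x
    exact ⟨⟨⟨W, e, e'⟩, hW, hP⟩, hx⟩
  let c : ∀ a : J, Spec (𝒜.presheaf.obj (op a.1.1)) ⟶ Proj (𝒮h.deg a.1.1 a.2.1) :=
    fun a => dualChart hS hz hA a.2.1 (F.gen a.2.2) (F.gen' a.2.2)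
  obtain ⟨Φ, hΦ⟩ := exists_glueSpec 𝒜 (fun a : J => a.1.1) (fun a => a.2.1) hcov
    (fun a => c a ≫ emb pC chartC a.1.1 a.2.1)
    (fun a b V hV ia ib => by
      simp only [c]
      rw [← Category.assoc, dualChart_res (hV := hV) (h := ia), Category.assoc,
        RelProjLib.map_res_emb_affine 𝒮h hPC, ← Category.assoc, dualChart_res (hV := hV) (h := ib), Category.assoc,
        RelProjLib.map_res_emb_affine 𝒮h hPC]
      obtain ⟨u, v, h1, h2, h3⟩ := F.trans (F.res ia a.2.2) (F.res ib b.2.2)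
      rw [dualChart_trans hS hz hA hV _ _ (F.gen (F.res ib b.2.2)) (F.gen' (F.res ib b.2.2)) h1 h2 h3])
  have hπ : Φ ≫ pC = 𝒜.π := by
    refine Scheme.hom_ext_of_forall _ _ fun x => ?_
    obtain ⟨a, ha⟩ := hcov (𝒜.π x)
    refine ⟨(𝒜.ι a.1.1 a.2.1).opensRange, RelSpecLib.exists_ι_apply_eq 𝒜 x _ _ ha, ?_⟩
    rw [← cancel_epi (𝒜.ι a.1.1 a.2.1).isoOpensRange.hom]
    simp only [Scheme.Hom.isoOpensRange_hom_ι_assoc]
    rw [reassoc_of% (hΦ a), RelProjLib.emb_comp hPC a.1.1 a.2.1,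
      reassoc_of% (dualChart_toSpec hS hz hA a.2.1 (F.gen a.2.2) (F.gen' a.2.2)), 𝒜.ι_π a.1.1 a.2.1]
  have hpre : ∀ a : J, Φ ⁻¹ᵁ (pC ⁻¹ᵁ a.1.1) = (𝒜.ι a.1.1 a.2.1).opensRange := fun a => by
    rw [← Scheme.Hom.comp_preimage, hπ, 𝒜.π_preimage a.1.1 a.2.1]
  have : IsOpenImmersion Φ := by
    rw [IsZariskiLocalAtTarget.iff_of_iSup_eq_top (P := @IsOpenImmersion) (fun a : J => pC ⁻¹ᵁ a.1.1) ?_]
    · intro a
      have e0 : Φ ∣_ (pC ⁻¹ᵁ a.1.1) = (𝒜.spec.isoOfEq (hpre a)).hom ≫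
          (𝒜.ι a.1.1 a.2.1).isoOpensRange.inv ≫ c a ≫ (chartC a.1.1 a.2.1).inv := by
        rw [← cancel_mono (pC ⁻¹ᵁ a.1.1).ι, morphismRestrict_ι]
        simp only [Category.assoc]
        rw [show (chartC a.1.1 a.2.1).inv ≫ (pC ⁻¹ᵁ a.1.1).ι = emb pC chartC a.1.1 a.2.1 from rfl, ← hΦ a,
          Scheme.Hom.isoOpensRange_inv_comp_assoc, Scheme.isoOfEq_hom_ι_assoc]
      rw [e0]
      have := isOpenImmersion_dualChart hS hz hA a.2.1 (F.gen a.2.2) (F.gen' a.2.2)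
      infer_instance
    · refine eq_top_iff.2 fun x _ => ?_
      obtain ⟨a, ha⟩ := hcov (pC x)
      exact Opens.mem_iSup.2 ⟨a, ha⟩
  have hrange : Set.range Φ = Set.range (pointedProjCone 𝒮 hz pC chartC).ι := by
    rw [Scheme.Opens.range_ι]
    refine Set.ext fun x => ⟨?_, fun hx => ?_⟩
    · rintro ⟨w, rfl⟩
      obtain ⟨a, ha⟩ := hcov (𝒜.π w)
      obtain ⟨q, rfl⟩ := RelSpecLib.exists_ι_apply_eq 𝒜 w _ a.2.1 ha
      rw [← Scheme.Hom.comp_apply, hΦ a, Scheme.Hom.comp_apply]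
      refine (emb_mem_pointed_iff hS hz hPC a.2.1 (F.gen a.2.2) _).2 ?_
      exact (Set.ext_iff.1 (range_dualChart hS hz hA a.2.1 (F.gen a.2.2) (F.gen' a.2.2)) _).1 ⟨q, rfl⟩
    · obtain ⟨a, ha⟩ := hcov (pC x)
      have hx' : x ∈ (emb pC chartC a.1.1 a.2.1).opensRange := by rw [RelProjLib.emb_opensRange]; exact ha
      obtain ⟨y, rfl⟩ := hx'
      have hy := (emb_mem_pointed_iff hS hz hPC a.2.1 (F.gen a.2.2) y).1 hx
      obtain ⟨q, rfl⟩ := (Set.ext_iff.1 (range_dualChart hS hz hA a.2.1 (F.gen a.2.2) (F.gen' a.2.2)) y).2 hy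
      exact ⟨𝒜.ι a.1.1 a.2.1 q, by rw [← Scheme.Hom.comp_apply, hΦ a, Scheme.Hom.comp_apply]⟩
  refine ⟨IsOpenImmersion.isoOfRangeEq Φ (pointedProjCone 𝒮 hz pC chartC).ι hrange, ?_⟩
  rw [IsOpenImmersion.isoOfRangeEq_hom_fac_assoc, hπ]

end Groth.Agent.Swap65

end
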