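import Groth.Agent.Swap65.Chart

/-! The morphism exchanging the two projective closures. -/

set_option autoImplicit false
noncomputable section

universe u

open CategoryTheory CategoryTheory.Limits AlgebraicGeometry TopologicalSpace Opposite
open RelProj RelCone
open scoped HomogeneousIdeal
open Groth.Agent.Props

namespace Groth.Agent.Swap65

variable {Y : Scheme.{u}} {L L' : Y.Modules} [L.IsQuasicoherent] [L'.IsQuasicoherent] {𝒮 𝒮h : QCGrAlg Y}
  {j : L ⟶ 𝒮.toModule}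
  (hS : IsGrSymAlg L 𝒮 j) {ι : 𝒮.toQCAlg ⟶ 𝒮h.toQCAlg} {z : 𝒮h.presheaf.obj (op ⊤)}
  (hz : IsPolyOver 𝒮 𝒮h ι z) {𝒮' 𝒮h' : QCGrAlg Y} {j' : L' ⟶ 𝒮'.toModule}
  (hS' : IsGrSymAlg L' 𝒮' j') {ι' : 𝒮'.toQCAlg ⟶ 𝒮h'.toQCAlg} {z' : 𝒮h'.presheaf.obj (op ⊤)}
  (hz' : IsPolyOver 𝒮' 𝒮h' ι' z')

lemma gradedHom_ext {A B : Type u} [CommRing A] [CommRing B] {𝒜 : ℕ → AddSubgroup A} [GradedRing 𝒜]
    {ℬ : ℕ → AddSubgroup B} [GradedRing ℬ] {f g : 𝒜 →+*ᵍ ℬ} (h : ∀ a, f a = g a) : f = g := by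
  cases f; cases g; congr 1; exact RingHom.ext h

lemma map_congr {A B : Type u} [CommRing A] [CommRing B] {𝒜 : ℕ → AddSubgroup A} [GradedRing 𝒜]
    {ℬ : ℕ → AddSubgroup B} [GradedRing ℬ] {f g : 𝒜 →+*ᵍ ℬ} (h : ∀ a, f a = g a)
    (hf : (ℬ₊) ≤ (𝒜₊).map f) (hg : (ℬ₊) ≤ (𝒜₊).map g) : Proj.map f hf = Proj.map g hg := by
  obtain rfl := gradedHom_ext h
  rfl

variable {W : Y.Opens} (hW : IsAffineOpen W) {e : Γ(L, W)} (he : GenLocus.IsGen L W e) {e' : Γ(L', W)}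
  (he' : GenLocus.IsGen L' W e')

/-- The exchange of coordinates. -/
def psi : 𝒮h'.deg W hW →+*ᵍ 𝒮h.deg W hW :=
  { (bij2_chart hS' hz' hW he').hom (𝒮h.str.app (op W)).hom (restrictTop 𝒮h z W) (xh j ι e) with
    map_mem := fun hx => (bij2_chart hS' hz' hW he').hom_mem (𝒮h'.str_mem W hW) (xh_mem hS' hz' hW e')
      (hz'.deg_z W hW) (𝒮h.str_mem W hW) (hz.deg_z W hW) (xh_mem hS hz hW e) hx }

lemma psi_str (r : Γ(Y, W)) :
    psi hS hz hS' hz' hW (e := e) he' ((𝒮h'.str.app (op W)).hom r) = (𝒮h.str.app (op W)).hom r :=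
  Bij2.hom_str _ _ _ _ r

lemma psi_x : psi hS hz hS' hz' hW (e := e) he' (xh j' ι' e') = restrictTop 𝒮h z W :=
  Bij2.hom_x _ _ _ _

lemma psi_z : psi hS hz hS' hz' hW (e := e) he' (restrictTop 𝒮h' z' W) = xh j ι e :=
  Bij2.hom_z _ _ _ _

include he in
lemma psi_psi (b : 𝒮h.presheaf.obj (op W)) :
    psi hS hz hS' hz' hW (e := e) he' (psi hS' hz' hS hz hW (e := e') he b) = b := by
  refine RingHom.congr_fun ((bij2_chart hS hz hW he).hom_ext
    (f := (psi hS hz hS' hz' hW (e := e) he').toRingHom.comp (psi hS' hz' hS hz hW (e := e') he).toRingHom)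
    (g := RingHom.id _) (fun r => ?_) ?_ ?_) b
  · exact (congrArg _ (psi_str hS' hz' hS hz hW (e := e') he r)).trans (psi_str hS hz hS' hz' hW (e := e) he' r)
  · exact (congrArg _ (psi_x hS' hz' hS hz hW (e := e') he)).trans (psi_z hS hz hS' hz' hW (e := e) he')
  · exact (congrArg _ (psi_z hS' hz' hS hz hW (e := e') he)).trans (psi_x hS hz hS' hz' hW (e := e) he')

include he in
lemma psi_irr : (𝒮h.deg W hW)₊ ≤ ((𝒮h'.deg W hW)₊).map (psi hS hz hS' hz' hW (e := e) he') := by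
  refine (HomogeneousIdeal.irrelevant_le _).2 fun i hi a ha => ?_
  rw [← psi_psi hS hz hS' hz' hW he he' a]
  exact Ideal.mem_map_of_mem _ (HomogeneousIdeal.mem_irrelevant_of_mem _ hi
    ((psi hS' hz' hS hz hW (e := e') he).map_mem ha))

/-- One chart of the exchange. -/
def chartMap : Proj (𝒮h.deg W hW) ⟶ Proj (𝒮h'.deg W hW) :=
  Proj.map (psi hS hz hS' hz' hW (e := e) he') (psi_irr hS hz hS' hz' hW he he')

lemma chartMap_comp : chartMap hS hz hS' hz' hW he he' ≫ chartMap hS' hz' hS hz hW he' he = 𝟙 _ := by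
  rw [chartMap, chartMap, ← Proj.map_comp, map_congr (g := GradedRingHom.id _) ?_ _ (by simp)]
  · exact Proj.map_id
  · intro a
    exact psi_psi hS hz hS' hz' hW he he' a

lemma mem_chartMap_iff (b : 𝒮h'.presheaf.obj (op W)) (y : Proj (𝒮h.deg W hW)) :
    b ∈ (chartMap hS hz hS' hz' hW he he' y).asHomogeneousIdeal ↔
      psi hS hz hS' hz' hW (e := e) he' b ∈ y.asHomogeneousIdeal :=
  Iff.rfl

lemma chartMap_toSpec :
    chartMap hS hz hS' hz' hW he he' ≫ Proj.toSpecZero (𝒮h'.deg W hW) ≫ Spec.map (𝒮h'.strZero W hW) =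
      Proj.toSpecZero (𝒮h.deg W hW) ≫ Spec.map (𝒮h.strZero W hW) := by
  rw [chartMap, ← Category.assoc, RelProjLib.map_toSpecZero, Category.assoc, ← Spec.map_comp]
  congr 2
  refine CommRingCat.hom_ext (RingHom.ext fun r => Subtype.ext ?_)
  exact psi_str hS hz hS' hz' hW (e := e) he' r

variable {V : Y.Opens} (hV : IsAffineOpen V) (h : V ≤ W)

lemma chartMap_res :
    Proj.map (𝒮h.res hW hV h) (RelProjLib.irrelevant_le_map_affine 𝒮h hW hV h) ≫ chartMap hS hz hS' hz' hW he he' =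
      chartMap hS hz hS' hz' hV (he.restrict h) (he'.restrict h) ≫
        Proj.map (𝒮h'.res hW hV h) (RelProjLib.irrelevant_le_map_affine 𝒮h' hW hV h) := by
  rw [chartMap, chartMap, ← Proj.map_comp, ← Proj.map_comp]
  refine map_congr (fun a => ?_) _ _
  refine RingHom.congr_fun ((bij2_chart hS' hz' hW he').hom_ext
    (f := (𝒮h.res hW hV h).toRingHom.comp (psi hS hz hS' hz' hW (e := e) he').toRingHom)
    (g := (psi hS hz hS' hz' hV (e := QCoh.res L h e) (he'.restrict h)).toRingHom.comp (𝒮h'.res hW hV h).toRingHom)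
    (fun r => ?_) ?_ ?_) a
  · exact ((congrArg _ (psi_str hS hz hS' hz' hW (e := e) he' r)).trans (str_res h r)).trans
      ((congrArg _ (str_res h r)).trans (psi_str hS hz hS' hz' hV (e := QCoh.res L h e) (he'.restrict h) _)).symm
  · exact ((congrArg _ (psi_x hS hz hS' hz' hW (e := e) he')).trans (RelConeLib.restrictTop_map h)).trans
      ((congrArg _ (xh_res h e')).trans (psi_x hS hz hS' hz' hV (e := QCoh.res L h e) (he'.restrict h))).symm
  · exact ((congrArg _ (psi_z hS hz hS' hz' hW (e := e) he')).trans (xh_res h e)).trans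
      ((congrArg _ (RelConeLib.restrictTop_map h)).trans
        (psi_z hS hz hS' hz' hV (e := QCoh.res L h e) (he'.restrict h))).symm

lemma chartMap_trans {f : Γ(L, W)} (hf : GenLocus.IsGen L W f) {f' : Γ(L', W)} (hf' : GenLocus.IsGen L' W f')
    {u v : Γ(Y, W)} (huv : u * v = 1) (h1 : f = u • e) (h2 : f' = v • e') :
    chartMap hS hz hS' hz' hW he he' = chartMap hS hz hS' hz' hW hf hf' := by
  subst h1 h2
  let s := (𝒮h.str.app (op W)).hom
  let s' := (𝒮h'.str.app (op W)).hom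
  have hs : s v * s u = 1 := by rw [← map_mul, mul_comm, huv, map_one]
  have hx : xh j' ι' e' = xh j' ι' (v • e') * s' u := by
    rw [xh_smul, mul_assoc, ← map_mul, mul_comm v u, huv, map_one, mul_one]
  refine map_eq_of_scale _ _ _ _ (𝒮h.str_mem W hW u) fun d a ha => ?_
  refine (bij2_chart hS' hz' hW he').deg_induction (𝒮h'.str_mem W hW) (xh_mem hS' hz' hW e') (hz'.deg_z W hW)
    (P := fun a => psi hS hz hS' hz' hW (e := u • e) hf' a = psi hS hz hS' hz' hW (e := e) he' a * s u ^ d)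
    (by simp) (fun a b ha hb => by rw [map_add, map_add, add_mul, ha, hb]) (fun r m n hmn => ?_) ha
  simp only [map_mul, map_pow]
  have e1 : psi hS hz hS' hz' hW (e := u • e) hf' (xh j' ι' e') = restrictTop 𝒮h z W * s u := by
    rw [hx, map_mul, psi_x, psi_str]
  rw [e1, psi_z, psi_x, psi_z, psi_str, psi_str, xh_smul, ← hmn, pow_add, mul_pow, mul_pow]
  ring

variable {PC PC' : Scheme.{u}} {pC : PC ⟶ Y}
  {chartC : ∀ (U : Y.Opens) (hU : IsAffineOpen U), (((pC ⁻¹ᵁ U : PC.Opens) : Scheme.{u}) ≅ Proj (𝒮h.deg U hU))}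
  (hPC : IsRelProj 𝒮h pC chartC) {pC' : PC' ⟶ Y}
  {chartC' : ∀ (U : Y.Opens) (hU : IsAffineOpen U), (((pC' ⁻¹ᵁ U : PC'.Opens) : Scheme.{u}) ≅ Proj (𝒮h'.deg U hU))}
  (hPC' : IsRelProj 𝒮h' pC' chartC')

include hS hz hS' hz' hPC hPC' in
theorem exists_exchange (F : FrSys L L') :
    ∃ Φ : PC ⟶ PC', Φ ≫ pC' = pC ∧ ∀ (W : Y.Opens) (hW : IsAffineOpen W) (e : Γ(L, W)) (e' : Γ(L', W))
      (hP : F.P W e e'), emb pC chartC W hW ≫ Φ =
        chartMap hS hz hS' hz' hW (F.gen hP) (F.gen' hP) ≫ emb pC' chartC' W hW := by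
  let J := {a : Σ W : Y.Opens, Γ(L, W) × Γ(L', W) // IsAffineOpen a.1 ∧ F.P a.1 a.2.1 a.2.2}
  have hcov : ∀ x : Y, ∃ a : J, x ∈ a.1.1 := fun x => by
    obtain ⟨W, hW, e, e', hx, hP⟩ := F.cover x
    exact ⟨⟨⟨W, e, e'⟩, hW, hP⟩, hx⟩
  obtain ⟨Φ, hΦ⟩ := exists_glueProj hPC (fun a : J => a.1.1) (fun a => a.2.1) hcov
    (fun a => chartMap hS hz hS' hz' a.2.1 (F.gen a.2.2) (F.gen' a.2.2) ≫ emb pC' chartC' a.1.1 a.2.1)
    (fun a b V hV ia ib => by
      rw [← Category.assoc, chartMap_res (hV := hV) (h := ia), Category.assoc, RelProjLib.map_res_emb_affine 𝒮h' hPC',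
        ← Category.assoc, chartMap_res (hV := hV) (h := ib), Category.assoc, RelProjLib.map_res_emb_affine 𝒮h' hPC']
      obtain ⟨u, v, h1, h2, h3⟩ := F.trans (F.res ia a.2.2) (F.res ib b.2.2)
      rw [chartMap_trans hS hz hS' hz' hV _ _ (F.gen (F.res ib b.2.2)) (F.gen' (F.res ib b.2.2)) h1 h2 h3])
  refine ⟨Φ, ?_, fun W hW e e' hP => hΦ ⟨⟨W, e, e'⟩, hW, hP⟩⟩
  refine Scheme.hom_ext_of_forall _ _ fun x => ?_
  obtain ⟨a, ha⟩ := hcov (pC x)
  refine ⟨pC ⁻¹ᵁ a.1.1, ha, ?_⟩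
  rw [← RelProjLib.chart_hom_emb (chart := chartC) a.1.1 a.2.1, Category.assoc, Category.assoc, reassoc_of% (hΦ a),
    RelProjLib.emb_comp hPC' a.1.1 a.2.1, RelProjLib.emb_comp hPC a.1.1 a.2.1,
    reassoc_of% (chartMap_toSpec hS hz hS' hz' a.2.1 (F.gen a.2.2) (F.gen' a.2.2))]

end Groth.Agent.Swap65

end
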