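import Groth.Agent.Swap65.Frames
import Groth.Agent.RelConeLib.Pointed
import Groth.Agent.SymLib.Grading
import Groth.Agent.S8298

/-! The two coordinates on the projective closure of a line bundle over a frame. -/

set_option autoImplicit false
noncomputable section

universe u

open CategoryTheory CategoryTheory.Limits AlgebraicGeometry TopologicalSpace Opposite
open RelProj RelCone
open Groth.Agent.Props

namespace Groth.Agent.Swap65

variable {Y : Scheme.{u}} {L : Y.Modules} [L.IsQuasicoherent] {𝒮 𝒮h : QCGrAlg Y} {j : L ⟶ 𝒮.toModule}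
  (hS : IsGrSymAlg L 𝒮 j) {ι : 𝒮.toQCAlg ⟶ 𝒮h.toQCAlg} {z : 𝒮h.presheaf.obj (op ⊤)}
  (hz : IsPolyOver 𝒮 𝒮h ι z)

variable (ι j) in
/-- The coordinate given by a frame. -/
def xh {W : Y.Opens} (e : Γ(L, W)) : 𝒮h.presheaf.obj (op W) := (ι.hom.app (op W)).hom (j.app W e)

lemma ι_str {W : Y.Opens} (r : Γ(Y, W)) :
    (ι.hom.app (op W)).hom ((𝒮.str.app (op W)).hom r) = (𝒮h.str.app (op W)).hom r :=
  congr($(NatTrans.congr_app ι.comm (op W)).hom r)

include hS hz in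
lemma bij2_chart {W : Y.Opens} (hW : IsAffineOpen W) {e : Γ(L, W)} (he : GenLocus.IsGen L W e) :
    Bij2 (𝒮h.str.app (op W)).hom (xh j ι e) (restrictTop 𝒮h z W) := by
  let ε := RingEquiv.ofBijective _ (DirImgInt65.polyHom_bijective hS.1 hW he)
  have h : ((Polynomial.eval₂RingHom (ι.hom.app (op W)).hom (restrictTop 𝒮h z W)).comp
      (Polynomial.mapEquiv ε).toRingHom) =
      Polynomial.eval₂RingHom (Polynomial.eval₂RingHom (𝒮h.str.app (op W)).hom (xh j ι e)) (restrictTop 𝒮h z W) := by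
    refine Polynomial.ringHom_ext' (Polynomial.ringHom_ext (fun a => ?_) ?_) ?_ <;>
      simp [ε, DirImgInt65.polyHom, xh, ι_str]
  unfold Bij2
  rw [← h, RingHom.coe_comp]
  exact Function.Bijective.comp (hz.bij W hW) (Polynomial.mapEquiv ε).bijective

include hS hz in
lemma xh_mem {W : Y.Opens} (hW : IsAffineOpen W) (e : Γ(L, W)) : xh j ι e ∈ 𝒮h.deg W hW 1 :=
  hz.graded W hW 1 _ (hS.2 W hW e)

lemma xh_smul {W : Y.Opens} (u : Γ(Y, W)) (e : Γ(L, W)) :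
    xh j ι (u • e) = xh j ι e * (𝒮h.str.app (op W)).hom u := by
  rw [xh, xh, Scheme.Modules.Hom.app_smul, mul_comm, ← ι_str]
  exact map_mul (ι.hom.app (op W)).hom _ _

lemma xh_res {W V : Y.Opens} (h : V ≤ W) (e : Γ(L, W)) :
    (𝒮h.presheaf.map (homOfLE h).op).hom (xh j ι e) = xh j ι (QCoh.res L h e) := by
  rw [xh, xh, QCoh.app_res]
  exact congr($(ι.hom.naturality (homOfLE h).op).hom (j.app W e)).symm

lemma str_res {W V : Y.Opens} (h : V ≤ W) (r : Γ(Y, W)) :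
    (𝒮h.presheaf.map (homOfLE h).op).hom ((𝒮h.str.app (op W)).hom r) =
      (𝒮h.str.app (op V)).hom ((Y.presheaf.map (homOfLE h).op).hom r) :=
  congr($(𝒮h.str.naturality (homOfLE h).op).hom r).symm

include hS in
lemma mem_domOpen_chart_iff {W : Y.Opens} (hW : IsAffineOpen W) {e : Γ(L, W)} (he : GenLocus.IsGen L W e)
    (y : Proj (𝒮h.deg W hW)) :
    y ∈ domOpen (gradedHomAt ι hz.graded W hW) ↔ xh j ι e ∉ y.asHomogeneousIdeal := by
  rw [RelConeLib.mem_domOpen_iff]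
  refine ⟨fun ⟨n, a, hn, ha, hay⟩ hx => hay ?_, fun hx => ⟨1, j.app W e, one_pos, hS.2 W hW e, hx⟩⟩
  obtain ⟨r, hr, -⟩ := SymLib.existsUnique_eq_pow hS hW ((GenLocus.isGen_iff_isFrame e).1 he) le_rfl ha
  have e0 : L.presheaf.map (homOfLE (le_refl W)).op e = e := by simp
  rw [e0] at hr
  show (ι.hom.app (op W)).hom a ∈ y.asHomogeneousIdeal
  rw [hr, map_mul, map_pow]
  exact Ideal.mul_mem_left _ _ (Ideal.pow_mem_of_mem _ hx n hn)

variable {PC : Scheme.{u}} {pC : PC ⟶ Y}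
  {chartC : ∀ (U : Y.Opens) (hU : IsAffineOpen U), (((pC ⁻¹ᵁ U : PC.Opens) : Scheme.{u}) ≅ Proj (𝒮h.deg U hU))}
  (hPC : IsRelProj 𝒮h pC chartC)

include hS hPC in
lemma emb_mem_pointed_iff {W : Y.Opens} (hW : IsAffineOpen W) {e : Γ(L, W)} (he : GenLocus.IsGen L W e)
    (y : Proj (𝒮h.deg W hW)) :
    emb pC chartC W hW y ∈ pointedProjCone 𝒮 hz pC chartC ↔ xh j ι e ∉ y.asHomogeneousIdeal :=
  (RelConeLib.mem_pointedProjCone_iff hz hPC W hW y).trans (mem_domOpen_chart_iff hS hz hW he y)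

include hS hz hPC in
lemma emb_mem_zero_iff (h0 : StrZeroBij 𝒮) {aug : 𝒮.toQCAlg ⟶ RelSpec.QCAlg.unit Y} (haug : IsAugmentation 𝒮 aug)
    {ε : Y ⟶ 𝒮.toQCAlg.spec} (hε : IsVertex 𝒮 aug ε) {i : 𝒮.toQCAlg.spec ⟶ PC}
    (hi : IsConeImm 𝒮 hz pC chartC i)
    {W : Y.Opens} (hW : IsAffineOpen W) {e : Γ(L, W)} (he : GenLocus.IsGen L W e) (y : Proj (𝒮h.deg W hW)) :
    emb pC chartC W hW y ∈ Set.range (ε ≫ i).base ↔ xh j ι e ∈ y.asHomogeneousIdeal := by
  have h := Groth.Agent.S8298.result 𝒮 𝒮h h0 ι z hz pC chartC hPC aug haug ε hε i hi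
  have h' := emb_mem_pointed_iff hS hz hPC hW he y
  rw [← SetLike.mem_coe, h] at h'
  exact not_iff_not.1 h'

include hPC in
lemma emb_mem_inf_iff {i : 𝒮.toQCAlg.spec ⟶ PC} (hi : IsConeImm 𝒮 hz pC chartC i)
    {W : Y.Opens} (hW : IsAffineOpen W) (y : Proj (𝒮h.deg W hW)) :
    emb pC chartC W hW y ∈ (Set.range i.base)ᶜ ↔ restrictTop 𝒮h z W ∈ y.asHomogeneousIdeal :=
  (RelConeLib.emb_mem_range_iff hPC (RelConeLib.isImm_of_isConeImm pC chartC hi) W hW y).not.trans not_not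

end Groth.Agent.Swap65

end
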