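import Groth.Agent.RelConeLib.Ring
import Mathlib.Algebra.Polynomial.Bivariate

/-! Graded rings that are polynomial rings in two variables of degree one over their base. -/

set_option autoImplicit false
noncomputable section

universe u

open CategoryTheory AlgebraicGeometry HomogeneousLocalization
open scoped HomogeneousIdeal

namespace Groth.Agent.Swap65

variable {R B : Type u} [CommRing R] [CommRing B]

/-- `B` is `R[x, z]`. -/
def Bij2 (str : R →+* B) (x z : B) : Prop :=
  Function.Bijective (Polynomial.eval₂RingHom (Polynomial.eval₂RingHom str x) z)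

variable {str : R →+* B} {x z : B}

lemma Bij2.swap (h : Bij2 str x z) : Bij2 str z x := by
  have e : ((Polynomial.eval₂RingHom (Polynomial.eval₂RingHom str x) z).comp
      (Polynomial.Bivariate.swap (R := R)).toRingEquiv.toRingHom) =
      Polynomial.eval₂RingHom (Polynomial.eval₂RingHom str z) x := by
    refine Polynomial.ringHom_ext' (Polynomial.ringHom_ext (fun a => ?_) ?_) ?_ <;>
      simp [Polynomial.Bivariate.swap_C_C, Polynomial.Bivariate.swap_X, Polynomial.Bivariate.swap_Y]
  unfold Bij2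
  rw [← e, RingHom.coe_comp]
  exact Function.Bijective.comp (show Function.Bijective _ from h) (Polynomial.Bivariate.swap (R := R)).bijective

/-- The homomorphism out of `R[x, z]` with prescribed values. -/
def Bij2.hom (h : Bij2 str x z) {C : Type u} [CommRing C] (f : R →+* C) (x' z' : C) : B →+* C :=
  (Polynomial.eval₂RingHom (Polynomial.eval₂RingHom f x') z').comp (RingEquiv.ofBijective _ h).symm.toRingHom

lemma Bij2.hom_eval (h : Bij2 str x z) {C : Type u} [CommRing C] (f : R →+* C) (x' z' : C)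
    (q : Polynomial (Polynomial R)) :
    h.hom f x' z' (Polynomial.eval₂RingHom (Polynomial.eval₂RingHom str x) z q) =
      Polynomial.eval₂RingHom (Polynomial.eval₂RingHom f x') z' q :=
  congrArg _ ((RingEquiv.ofBijective _ h).symm_apply_apply q)

@[simp] lemma Bij2.hom_str (h : Bij2 str x z) {C : Type u} [CommRing C] (f : R →+* C) (x' z' : C) (r : R) :
    h.hom f x' z' (str r) = f r := by
  simpa using h.hom_eval f x' z' (Polynomial.C (Polynomial.C r))

@[simp] lemma Bij2.hom_x (h : Bij2 str x z) {C : Type u} [CommRing C] (f : R →+* C) (x' z' : C) :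
    h.hom f x' z' x = x' := by
  simpa using h.hom_eval f x' z' (Polynomial.C Polynomial.X)

@[simp] lemma Bij2.hom_z (h : Bij2 str x z) {C : Type u} [CommRing C] (f : R →+* C) (x' z' : C) :
    h.hom f x' z' z = z' := by
  simpa using h.hom_eval f x' z' Polynomial.X

lemma Bij2.hom_ext (h : Bij2 str x z) {C : Type u} [CommRing C] {f g : B →+* C}
    (h0 : ∀ r, f (str r) = g (str r)) (hx : f x = g x) (hz : f z = g z) : f = g := by
  refine RingHom.ext fun b => ?_
  obtain ⟨q, rfl⟩ := h.2 b
  have e : f.comp (Polynomial.eval₂RingHom (Polynomial.eval₂RingHom str x) z) =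
      g.comp (Polynomial.eval₂RingHom (Polynomial.eval₂RingHom str x) z) :=
    Polynomial.ringHom_ext' (Polynomial.ringHom_ext (fun a => by simpa using h0 a) (by simpa using hx))
      (by simpa using hz)
  exact RingHom.congr_fun e q

variable {ℬ : ℕ → AddSubgroup B} [GradedRing ℬ]

/-- The homogeneous elements are sums of monomials. -/
lemma Bij2.deg_induction (h : Bij2 str x z) (hs : ∀ r, str r ∈ ℬ 0) (hx : x ∈ ℬ 1) (hz : z ∈ ℬ 1) {d : ℕ}
    {P : B → Prop} (h0 : P 0) (hadd : ∀ a b, P a → P b → P (a + b))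
    (hmon : ∀ (r : R) (i j : ℕ), i + j = d → P (str r * x ^ i * z ^ j)) {b : B} (hb : b ∈ ℬ d) : P b := by
  have hmem : ∀ (r : R) (i j : ℕ), str r * x ^ i * z ^ j ∈ ℬ (i + j) := fun r i j => by
    have := SetLike.mul_mem_graded (SetLike.mul_mem_graded (hs r) (SetLike.pow_mem_graded i hx))
      (SetLike.pow_mem_graded j hz)
    simpa using this
  have key : ∀ q : Polynomial (Polynomial R),
      P (GradedRing.proj ℬ d (Polynomial.eval₂RingHom (Polynomial.eval₂RingHom str x) z q)) := by
    intro q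
    induction q using Polynomial.induction_on' with
    | add p p' hp hp' => rw [map_add, map_add]; exact hadd _ _ hp hp'
    | monomial j f =>
      induction f using Polynomial.induction_on' with
      | add p p' hp hp' => rw [map_add, map_add, map_add]; exact hadd _ _ hp hp'
      | monomial i r =>
        have e : Polynomial.eval₂RingHom (Polynomial.eval₂RingHom str x) z
            (Polynomial.monomial j (Polynomial.monomial i r)) = str r * x ^ i * z ^ j := by simp
        rw [e, GradedRing.proj_apply]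
        by_cases hd : i + j = d
        · subst hd
          rw [DirectSum.decompose_of_mem_same _ (hmem r i j)]
          exact hmon r i j rfl
        · rw [DirectSum.decompose_of_mem_ne _ (hmem r i j) hd]
          exact h0
  obtain ⟨q, rfl⟩ := h.2 b
  have := key q
  rwa [GradedRing.proj_apply, DirectSum.decompose_of_mem_same _ hb] at this

variable {B' : Type u} [CommRing B'] {ℬ' : ℕ → AddSubgroup B'} [GradedRing ℬ']

lemma Bij2.hom_mem (h : Bij2 str x z) (hs : ∀ r, str r ∈ ℬ 0) (hx : x ∈ ℬ 1) (hz : z ∈ ℬ 1)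
    {f : R →+* B'} {x' z' : B'} (hf : ∀ r, f r ∈ ℬ' 0) (hx' : x' ∈ ℬ' 1) (hz' : z' ∈ ℬ' 1) {d : ℕ} {b : B}
    (hb : b ∈ ℬ d) : h.hom f x' z' b ∈ ℬ' d := by
  refine h.deg_induction hs hx hz (P := fun b => h.hom f x' z' b ∈ ℬ' d) (by rw [map_zero]; exact zero_mem _)
    (fun a a' ha ha' => by rw [map_add]; exact add_mem ha ha') (fun r i j hij => ?_) hb
  subst hij
  simp only [map_mul, map_pow, hom_str, hom_x, hom_z]
  have := SetLike.mul_mem_graded (SetLike.mul_mem_graded (hf r) (SetLike.pow_mem_graded i hx'))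
    (SetLike.pow_mem_graded j hz')
  simpa using this

lemma mem_away_cast {c : B} (hc : c ∈ ℬ 0) {d : ℕ} {g : B} (hg : g ∈ ℬ d) : g * c ∈ ℬ d := by
  simpa using SetLike.mul_mem_graded hg hc

omit [CommRing R] in
lemma smul_mem (n d : ℕ) {a c : B} (ha : a ∈ ℬ (n • d)) (hc : c ∈ ℬ 0) : a * c ^ n ∈ ℬ (n • d) :=
  mem_away_cast (by simpa using SetLike.pow_mem_graded n hc) ha

section

variable {A τ : Type u} [CommRing A] [SetLike τ A] [AddSubgroupClass τ A] {𝒜 : ℕ → τ} [GradedRing 𝒜]

/-- Two graded homomorphisms differing by a unit of degree zero give the same morphism of `Proj`. -/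
theorem map_eq_of_scale (f g : 𝒜 →+*ᵍ ℬ) (hf : (ℬ₊) ≤ (𝒜₊).map f) (hg : (ℬ₊) ≤ (𝒜₊).map g)
    {c : B} (hc : c ∈ ℬ 0) (h : ∀ (d : ℕ), ∀ a ∈ 𝒜 d, g a = f a * c ^ d) :
    Proj.map f hf = Proj.map g hg := by
  have key : ∀ (i : ℕ) (hi : 0 < i) (t : A) (ht : t ∈ 𝒜 i),
      Proj.awayι ℬ (g t) (g.2 ht) hi ≫ Proj.map f hf = Proj.awayι ℬ (g t) (g.2 ht) hi ≫ Proj.map g hg := by
    intro i hi t ht
    rw [Proj.awayι_comp_map g hg hi _ ht]
    have hcd : c ^ i ∈ ℬ 0 := by simpa using SetLike.pow_mem_graded i hc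
    rw [← Proj.SpecMap_awayMap_awayι (f := f t) ℬ (f.2 ht) hi hcd (h _ _ ht), Category.assoc,
      Proj.awayι_comp_map f hf hi _ ht, ← Spec.map_comp_assoc, ← CommRingCat.ofHom_comp]
    congr 3
    refine RingHom.ext fun w => ?_
    obtain ⟨n, a, ha, rfl⟩ := Away.mk_surjective 𝒜 ht w
    rw [RingHom.comp_apply, Away.map_mk, Away.map_mk, awayMap_mk]
    refine HomogeneousLocalization.val_injective _ ?_
    rw [Away.val_mk, Away.val_mk]
    have e2 : g a = f a * (c ^ i) ^ n := by rw [h _ _ ha, ← pow_mul, smul_eq_mul, mul_comm n]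
    congr 1
    exact e2.symm
  exact (Proj.mapAffineOpenCover g hg).openCover.hom_ext _ _ fun s => key s.1 s.1.2 s.2 s.2.2

end

section cone

variable {A : Type u} [CommRing A] {x1 x2 : B}

/-- Changing the element inverted by a unit of degree zero. -/
theorem coneChart_eq_of_scale (E1 E2 : B →+* A) (h1 : E1 x1 = 1) (h2 : E2 x2 = 1) (hx1 : x1 ∈ ℬ 1) (hx2 : x2 ∈ ℬ 1)
    {c : B} (hc : c ∈ ℬ 0) (e : x2 = x1 * c) (hE : ∀ (n : ℕ), ∀ b ∈ ℬ n, E2 (b * c ^ n) = E1 b) :
    RelConeLib.coneChart ℬ E1 h1 hx1 = RelConeLib.coneChart ℬ E2 h2 hx2 := by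
  unfold RelConeLib.coneChart
  rw [← Proj.SpecMap_awayMap_awayι ℬ hx1 one_pos hc e, ← Spec.map_comp_assoc, ← CommRingCat.ofHom_comp]
  congr 3
  refine RingHom.ext fun w => ?_
  obtain ⟨n, a, ha, rfl⟩ := Away.mk_surjective ℬ hx1 w
  rw [RingHom.comp_apply, awayMap_mk, RelConeLib.awayTo_mk, RelConeLib.awayTo_mk]
  exact (hE n a (by simpa using ha)).symm

end cone

end Groth.Agent.Swap65

end
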