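import Groth.Agent.Props.GenTensor
import Groth.Agent.DirImgInt65.Basic
import Groth.Agent.RelProjLib.Res
import Groth.Agent.RelProjLib.ProjMap
import Groth.Agent.RelSpecLib.Basic
import Groth.Agent.Swap65.Ring
import Groth.Agent.AmpleLib.Basic

/-! Dual frames of a pair of mutually inverse line bundles; gluing from frames. -/

set_option autoImplicit false
noncomputable section

universe u

open CategoryTheory CategoryTheory.Limits AlgebraicGeometry TopologicalSpace Opposite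
open RelProj
open Groth.Agent.Props

namespace Groth.Agent.Swap65

variable {Y : Scheme.{u}}

/-- A system of dual frames. -/
structure FrSys (L L' : Y.Modules) where
  P : ∀ W : Y.Opens, Γ(L, W) → Γ(L', W) → Prop
  gen : ∀ {W e e'}, P W e e' → GenLocus.IsGen L W e
  gen' : ∀ {W e e'}, P W e e' → GenLocus.IsGen L' W e'
  res : ∀ {W V : Y.Opens} (h : V ≤ W) {e e'}, P W e e' → P V (QCoh.res L h e) (QCoh.res L' h e')
  trans : ∀ {W : Y.Opens} {e e' f f'}, P W e e' → P W f f' →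
    ∃ u v : Γ(Y, W), u * v = 1 ∧ f = u • e ∧ f' = v • e'
  cover : ∀ x : Y, ∃ (W : Y.Opens) (_ : IsAffineOpen W) (e : Γ(L, W)) (e' : Γ(L', W)), x ∈ W ∧ P W e e'

/-- The same frames, the two modules exchanged. -/
def FrSys.symm {L L' : Y.Modules} (F : FrSys L L') : FrSys L' L where
  P W e' e := F.P W e e'
  gen := F.gen'
  gen' := F.gen
  res {_ _} h {_ _} hP := F.res h hP
  trans h h' := by
    obtain ⟨u, v, h1, h2, h3⟩ := F.trans h h'
    exact ⟨v, u, by rwa [mul_comm], h3, h2⟩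
  cover x := by
    obtain ⟨W, hW, e, e', hx, hP⟩ := F.cover x
    exact ⟨W, hW, e', e, hx, hP⟩

variable {L L' : Y.Modules}

/-- The frames of an isomorphism `L ⊗ L' ≅ O`. -/
def frSys (hL : PicF.IsInvertible L) (hL' : PicF.IsInvertible L')
    (θ : CohB1.tensorMod L L' ≅ Coh.structureModule Y) : FrSys L L' where
  P W e e' := GenLocus.IsGen L W e ∧ GenLocus.IsGen L' W e' ∧
    θ.hom.app W (GenTensor.tmul e e') = (1 : Γ(Y, W))
  gen h := h.1
  gen' h := h.2.1
  res {W V} h {e e'} hP := by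
    refine ⟨hP.1.restrict h, hP.2.1.restrict h, ?_⟩
    rw [← GenTensor.res_tmul, QCoh.app_res, hP.2.2]
    exact (Y.presheaf.map (homOfLE h).op).hom.map_one
  trans {W e e' f f'} h h' := by
    obtain ⟨u, hu, -⟩ := h.1.exists_eq le_rfl f
    obtain ⟨v, hv, -⟩ := h.2.1.exists_eq le_rfl f'
    rw [QCoh.res_self] at hu hv
    refine ⟨u, v, ?_, hu, hv⟩
    have e1 := h'.2.2
    rw [hu, hv, GenTensor.tmul_smul_left, GenTensor.tmul_smul_right, smul_smul, Scheme.Modules.Hom.app_smul, h.2.2] at e1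
    exact (mul_one (u * v)).symm.trans e1
  cover x := by
    obtain ⟨U, e, hxU, he⟩ := GenLocus.exists_isGen hL x
    obtain ⟨U', e', hxU', he'⟩ := GenLocus.exists_isGen hL' x
    obtain ⟨W, hW, hxW, hWU⟩ := exists_isAffineOpen_mem_and_subset (X := Y) (x := x) (U := U ⊓ U') ⟨hxU, hxU'⟩
    replace hWU : W ≤ U ⊓ U' := hWU
    have h1 := he.restrict (hWU.trans inf_le_left)
    have h2 := he'.restrict (hWU.trans inf_le_right)
    have h3 := GenTensor.isGen_tmul h1 h2
    obtain ⟨b, hb, -⟩ := h3.exists_eq le_rfl (θ.inv.app W (show Γ(Coh.structureModule Y, W) from (1 : Γ(Y, W))))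
    rw [QCoh.res_self] at hb
    have hb' := congrArg (θ.hom.app W) hb
    rw [Scheme.Modules.Hom.app_smul] at hb'
    have hinv : θ.hom.app W (θ.inv.app W (show Γ(Coh.structureModule Y, W) from (1 : Γ(Y, W)))) = (1 : Γ(Y, W)) := by
      rw [← CategoryTheory.comp_apply, ← Scheme.Modules.Hom.comp_app, θ.inv_hom_id]
      rfl
    rw [hinv] at hb'
    refine ⟨W, hW, QCoh.res L (hWU.trans inf_le_left) e, b • QCoh.res L' (hWU.trans inf_le_right) e', hxW, h1,
      h2.smul_unit (IsUnit.of_mul_eq_one _ hb'.symm), ?_⟩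
    rw [GenTensor.tmul_smul_right, Scheme.Modules.Hom.app_smul]
    exact hb'.symm

/-- Morphisms out of a relative `Proj`, glued from any covering family of affine opens. -/
theorem exists_glueProj {𝒮 : QCGrAlg Y} {P : Scheme.{u}} {p : P ⟶ Y}
    {chart : ∀ (U : Y.Opens) (hU : IsAffineOpen U), (((p ⁻¹ᵁ U : P.Opens) : Scheme.{u}) ≅ Proj (𝒮.deg U hU))}
    (hP : IsRelProj 𝒮 p chart) {Z : Scheme.{u}} {J : Type u} (W : J → Y.Opens) (hW : ∀ a, IsAffineOpen (W a))
    (hcov : ∀ x : Y, ∃ a, x ∈ W a) (g : ∀ a, Proj (𝒮.deg (W a) (hW a)) ⟶ Z)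
    (hg : ∀ (a b : J) (V : Y.Opens) (hV : IsAffineOpen V) (ia : V ≤ W a) (ib : V ≤ W b),
      Proj.map (𝒮.res (hW a) hV ia) (RelProjLib.irrelevant_le_map_affine 𝒮 (hW a) hV ia) ≫ g a =
        Proj.map (𝒮.res (hW b) hV ib) (RelProjLib.irrelevant_le_map_affine 𝒮 (hW b) hV ib) ≫ g b) :
    ∃ G : P ⟶ Z, ∀ a, emb p chart (W a) (hW a) ≫ G = g a := by
  let 𝒰 : P.OpenCover := Scheme.Cover.mkOfCovers J (fun a => Proj (𝒮.deg (W a) (hW a)))
    (fun a => emb p chart (W a) (hW a)) (fun x => by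
      obtain ⟨a, ha⟩ := hcov (p x)
      have : x ∈ (emb p chart (W a) (hW a)).opensRange := by rw [RelProjLib.emb_opensRange]; exact ha
      obtain ⟨y, hy⟩ := this
      exact ⟨a, y, hy⟩)
  have agree : ∀ a b : J, pullback.fst (emb p chart (W a) (hW a)) (emb p chart (W b) (hW b)) ≫ g a =
      pullback.snd (emb p chart (W a) (hW a)) (emb p chart (W b) (hW b)) ≫ g b := by
    intro a b
    let q := pullback.fst (emb p chart (W a) (hW a)) (emb p chart (W b) (hW b)) ≫ emb p chart (W a) (hW a)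
    refine Scheme.hom_ext_of_forall _ _ fun x => ?_
    have hxa : p (q x) ∈ W a := by
      have h : q x ∈ (emb p chart (W a) (hW a)).opensRange := ⟨_, rfl⟩
      rwa [RelProjLib.emb_opensRange] at h
    have hxb : p (q x) ∈ W b := by
      have h : q x ∈ (emb p chart (W b) (hW b)).opensRange :=
        ⟨pullback.snd (emb p chart (W a) (hW a)) (emb p chart (W b) (hW b)) x, by
          rw [← Scheme.Hom.comp_apply, ← pullback.condition]⟩
      rwa [RelProjLib.emb_opensRange] at h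
    obtain ⟨V, hV, hxV, hVle⟩ := exists_isAffineOpen_mem_and_subset (X := Y) (x := p (q x)) (U := W a ⊓ W b) ⟨hxa, hxb⟩
    replace hVle : V ≤ W a ⊓ W b := hVle
    refine ⟨q ⁻¹ᵁ (p ⁻¹ᵁ V), hxV, ?_⟩
    let O := q ⁻¹ᵁ (p ⁻¹ᵁ V)
    have hr : Set.range (O.ι ≫ q) ⊆ Set.range (emb p chart V hV) := by
      rintro _ ⟨y, rfl⟩
      have h : q (O.ι y) ∈ (emb p chart V hV).opensRange := by rw [RelProjLib.emb_opensRange]; exact y.2
      exact h
    let k := IsOpenImmersion.lift (emb p chart V hV) (O.ι ≫ q) hr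
    have hk : k ≫ emb p chart V hV = O.ι ≫ q := IsOpenImmersion.lift_fac _ _ _
    have h1 : k ≫ Proj.map (𝒮.res (hW a) hV (hVle.trans inf_le_left))
        (RelProjLib.irrelevant_le_map_affine 𝒮 (hW a) hV (hVle.trans inf_le_left)) =
        O.ι ≫ pullback.fst (emb p chart (W a) (hW a)) (emb p chart (W b) (hW b)) := by
      rw [← cancel_mono (emb p chart (W a) (hW a)), Category.assoc, RelProjLib.map_res_emb_affine 𝒮 hP, hk,
        Category.assoc]
    have h2 : k ≫ Proj.map (𝒮.res (hW b) hV (hVle.trans inf_le_right))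
        (RelProjLib.irrelevant_le_map_affine 𝒮 (hW b) hV (hVle.trans inf_le_right)) =
        O.ι ≫ pullback.snd (emb p chart (W a) (hW a)) (emb p chart (W b) (hW b)) := by
      rw [← cancel_mono (emb p chart (W b) (hW b)), Category.assoc, RelProjLib.map_res_emb_affine 𝒮 hP, hk,
        Category.assoc]
      simp only [q, pullback.condition]
    change O.ι ≫ _ = O.ι ≫ _
    rw [← reassoc_of% h1, ← reassoc_of% h2, hg a b V hV (hVle.trans inf_le_left) (hVle.trans inf_le_right)]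
  exact ⟨Scheme.Cover.glueMorphisms 𝒰 g agree, fun a => Scheme.Cover.ι_glueMorphisms 𝒰 g agree a⟩

/-- Morphisms out of a relative spectrum, glued from any covering family of affine opens. -/
theorem exists_glueSpec (A : RelSpec.QCAlg Y) {Z : Scheme.{u}} {J : Type u} (W : J → Y.Opens)
    (hW : ∀ a, IsAffineOpen (W a)) (hcov : ∀ x : Y, ∃ a, x ∈ W a) (g : ∀ a, Spec (A.presheaf.obj (op (W a))) ⟶ Z)
    (hg : ∀ (a b : J) (V : Y.Opens) (_ : IsAffineOpen V) (ia : V ≤ W a) (ib : V ≤ W b),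
      Spec.map (A.presheaf.map (homOfLE ia).op) ≫ g a = Spec.map (A.presheaf.map (homOfLE ib).op) ≫ g b) :
    ∃ G : A.spec ⟶ Z, ∀ a, A.ι (W a) (hW a) ≫ G = g a := by
  let K : Y.Opens → Prop := fun V => ∃ a, V ≤ W a
  obtain ⟨G, hG, -⟩ := RelSpecLib.existsUnique_glue A (Z := Z) K
    (fun x => by obtain ⟨a, ha⟩ := hcov x; exact ⟨W a, hW a, ha, a, le_rfl⟩)
    (fun U V _ h ⟨a, ha⟩ => ⟨a, h.trans ha⟩)
    (fun V _ k => Spec.map (A.presheaf.map (homOfLE k.choose_spec).op) ≫ g k.choose)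
    (fun U V _ hV i kU kV => by
      rw [← Spec.map_comp_assoc, ← Functor.map_comp, ← op_comp]
      exact hg _ _ V hV (i.trans kU.choose_spec) kV.choose_spec)
  refine ⟨G, fun a => ?_⟩
  rw [hG (W a) (hW a) ⟨a, le_rfl⟩, hg _ a (W a) (hW a) _ le_rfl]
  simp

end Groth.Agent.Swap65

end
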