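import Groth.Agent.Swap65.TensorRing

/-! `P(E) ≅ P(E ⊗ L)`. -/

set_option autoImplicit false
noncomputable section

universe u

open CategoryTheory CategoryTheory.Limits AlgebraicGeometry TopologicalSpace Opposite
open RelProj
open scoped HomogeneousIdeal
open Groth.Agent.Props

namespace Groth.Agent.Swap65

variable {Y : Scheme.{u}} {E L : Y.Modules} [E.IsQuasicoherent] [(CohB1.tensorMod E L).IsQuasicoherent]
  {𝒮 𝒯 : QCGrAlg Y} {j : E ⟶ 𝒮.toModule} (hj : IsGrSymAlg E 𝒮 j)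
  {k : CohB1.tensorMod E L ⟶ 𝒯.toModule} (hk : IsGrSymAlg (CohB1.tensorMod E L) 𝒯 k)
  {W : Y.Opens} (hW : IsAffineOpen W) {ℓ : Γ(L, W)} (hl : GenLocus.IsGen L W ℓ)

/-- One chart of `P(E) ⟶ P(E ⊗ L)`. -/
def tMap : Proj (𝒮.deg W hW) ⟶ Proj (𝒯.deg W hW) := Proj.map (psiT hj hk hW hl) (psiT_irr hj hk hW hl)

/-- One chart of `P(E ⊗ L) ⟶ P(E)`. -/
def tMapInv : Proj (𝒯.deg W hW) ⟶ Proj (𝒮.deg W hW) := Proj.map (chiT hj hk hW hl) (chiT_irr hj hk hW hl)

lemma gradedHom_ext' {A B : Type u} [CommRing A] [CommRing B] {𝒜 : ℕ → AddSubgroup A} [GradedRing 𝒜]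
    {ℬ : ℕ → AddSubgroup B} [GradedRing ℬ] {f g : 𝒜 →+*ᵍ ℬ} (h : ∀ a, f a = g a)
    (hf : (ℬ₊) ≤ (𝒜₊).map f) (hg : (ℬ₊) ≤ (𝒜₊).map g) : Proj.map f hf = Proj.map g hg := by
  obtain rfl : f = g := by cases f; cases g; congr 1; exact RingHom.ext h
  rfl

lemma tMap_comp : tMap hj hk hW hl ≫ tMapInv hj hk hW hl = 𝟙 _ := by
  rw [tMap, tMapInv, ← Proj.map_comp, gradedHom_ext' (g := GradedRingHom.id _) ?_ _ (by simp)]
  · exact Proj.map_id
  · intro a
    exact tHom_tInv hj hk hW hl a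

lemma tMapInv_comp : tMapInv hj hk hW hl ≫ tMap hj hk hW hl = 𝟙 _ := by
  rw [tMap, tMapInv, ← Proj.map_comp, gradedHom_ext' (g := GradedRingHom.id _) ?_ _ (by simp)]
  · exact Proj.map_id
  · intro a
    exact tInv_tHom hj hk hW hl a

lemma tMap_toSpec :
    tMap hj hk hW hl ≫ Proj.toSpecZero (𝒯.deg W hW) ≫ Spec.map (𝒯.strZero W hW) =
      Proj.toSpecZero (𝒮.deg W hW) ≫ Spec.map (𝒮.strZero W hW) := by
  rw [tMap, ← Category.assoc, RelProjLib.map_toSpecZero, Category.assoc, ← Spec.map_comp]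
  congr 2
  refine CommRingCat.hom_ext (RingHom.ext fun r => Subtype.ext ?_)
  exact psiT_str hj hk hW hl r

variable {V : Y.Opens} (hV : IsAffineOpen V) (h : V ≤ W)

lemma psiT_res (a : (𝒯.presheaf.obj (op W) : Type u)) :
    (𝒮.presheaf.map (homOfLE h).op).hom (psiT hj hk hW hl a) =
      psiT hj hk hV (hl.restrict h) ((𝒯.presheaf.map (homOfLE h).op).hom a) := by
  refine RingHom.congr_fun (tHom_ext hk hW hl
    (f := (𝒮.presheaf.map (homOfLE h).op).hom.comp (psiT hj hk hW hl).toRingHom)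
    (g := (psiT hj hk hV (hl.restrict h)).toRingHom.comp (𝒯.presheaf.map (homOfLE h).op).hom)
    (fun r => ?_) fun m => ?_) a
  · exact ((congrArg _ (psiT_str hj hk hW hl r)).trans (congr($(𝒮.str.naturality (homOfLE h).op).hom r).symm)).trans
      ((congrArg _ (congr($(𝒯.str.naturality (homOfLE h).op).hom r).symm)).trans (psiT_str hj hk hV (hl.restrict h) _)).symm
  · have e : (𝒯.presheaf.map (homOfLE h).op).hom (k.app W (GenTensor.tmul m ℓ)) =
        k.app V (GenTensor.tmul (QCoh.res E h m) (QCoh.res L h ℓ)) :=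
      (QCoh.app_res k h _).symm.trans (congrArg (k.app V) (GenTensor.res_tmul h m ℓ))
    exact ((congrArg _ (psiT_k hj hk hW hl m)).trans (QCoh.app_res j h m).symm).trans
      ((congrArg _ e).trans (psiT_k hj hk hV (hl.restrict h) _)).symm

lemma tMap_res :
    Proj.map (𝒮.res hW hV h) (RelProjLib.irrelevant_le_map_affine 𝒮 hW hV h) ≫ tMap hj hk hW hl =
      tMap hj hk hV (hl.restrict h) ≫ Proj.map (𝒯.res hW hV h) (RelProjLib.irrelevant_le_map_affine 𝒯 hW hV h) := by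
  rw [tMap, tMap, ← Proj.map_comp, ← Proj.map_comp]
  exact gradedHom_ext' (psiT_res hj hk hW hl hV h) _ _

lemma tMap_trans {ℓ' : Γ(L, W)} (hl' : GenLocus.IsGen L W ℓ') {u : Γ(Y, W)} (e : ℓ' = u • ℓ) :
    tMap hj hk hW hl' = tMap hj hk hW hl := by
  refine map_eq_of_scale _ _ _ _ (𝒮.str_mem W hW u) fun d a ha => ?_
  refine degInd hk hW (P := fun d a => psiT hj hk hW hl a = psiT hj hk hW hl' a * (𝒮.str.app (op W)).hom u ^ d)
    (fun r => by rw [psiT_str, psiT_str, pow_zero, mul_one]) (fun d a t ha => ?_)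
    (fun d a b ha hb => by rw [map_add, map_add, add_mul, ha, hb]) ha
  obtain ⟨m, rfl⟩ := (tmul_frame_bijective hl').2 t
  have e1 : psiT hj hk hW hl' (k.app W (GenTensor.tmul m ℓ')) = j.app W m := psiT_k hj hk hW hl' m
  have e2 : psiT hj hk hW hl (k.app W (GenTensor.tmul m ℓ')) =
      (𝒮.str.app (op W)).hom u * (show (𝒮.presheaf.obj (op W) : Type u) from j.app W m) := by
    rw [e, GenTensor.tmul_smul_right, ← GenTensor.tmul_smul_left]
    exact (psiT_k hj hk hW hl _).trans (Scheme.Modules.Hom.app_smul j u m)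
  rw [map_mul, map_mul, ha]
  erw [e1, e2]
  exact (fun A s t => by ring : ∀ A s t : (𝒮.presheaf.obj (op W) : Type u),
    A * s ^ d * (s * t) = A * t * s ^ (d + 1)) _ _ _

variable {P Q : Scheme.{u}} {p : P ⟶ Y}
  {chart : ∀ (U : Y.Opens) (hU : IsAffineOpen U), (((p ⁻¹ᵁ U : P.Opens) : Scheme.{u}) ≅ Proj (𝒮.deg U hU))}
  (hP : IsRelProj 𝒮 p chart) {q : Q ⟶ Y}
  {chartQ : ∀ (U : Y.Opens) (hU : IsAffineOpen U), (((q ⁻¹ᵁ U : Q.Opens) : Scheme.{u}) ≅ Proj (𝒯.deg U hU))}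
  (hQ : IsRelProj 𝒯 q chartQ)

include hj hk hP hQ in
theorem exists_tensorIso (hL : PicF.IsInvertible L) :
    ∃ i : P ≅ Q, i.hom ≫ q = p ∧ ∀ (W : Y.Opens) (hW : IsAffineOpen W) (ℓ : Γ(L, W))
      (hl : GenLocus.IsGen L W ℓ), emb p chart W hW ≫ i.hom = tMap hj hk hW hl ≫ emb q chartQ W hW := by
  let J := {a : Σ W : Y.Opens, Γ(L, W) // IsAffineOpen a.1 ∧ GenLocus.IsGen L a.1 a.2}
  have hcov : ∀ x : Y, ∃ a : J, x ∈ a.1.1 := fun x => by
    obtain ⟨U, e, hxU, he⟩ := GenLocus.exists_isGen hL x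
    obtain ⟨W, hW, hxW, hWU⟩ := exists_isAffineOpen_mem_and_subset (X := Y) (x := x) (U := U) hxU
    exact ⟨⟨⟨W, QCoh.res L hWU e⟩, hW, he.restrict hWU⟩, hxW⟩
  have htr : ∀ (a b : J) (V : Y.Opens) (hV : IsAffineOpen V) (ia : V ≤ a.1.1) (ib : V ≤ b.1.1),
      tMap hj hk hV (a.2.2.restrict ia) = tMap hj hk hV (b.2.2.restrict ib) := fun a b V hV ia ib => by
    obtain ⟨u, hu, -⟩ := (b.2.2.restrict ib).exists_eq le_rfl (QCoh.res L ia a.1.2)
    rw [QCoh.res_self] at hu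
    exact tMap_trans hj hk hV _ _ hu
  obtain ⟨Φ, hΦ⟩ := exists_glueProj hP (fun a : J => a.1.1) (fun a => a.2.1) hcov
    (fun a => tMap hj hk a.2.1 a.2.2 ≫ emb q chartQ a.1.1 a.2.1)
    (fun a b V hV ia ib => by
      rw [← Category.assoc, tMap_res (hV := hV) (h := ia), Category.assoc, RelProjLib.map_res_emb_affine 𝒯 hQ,
        ← Category.assoc, tMap_res (hV := hV) (h := ib), Category.assoc, RelProjLib.map_res_emb_affine 𝒯 hQ,
        htr a b V hV ia ib])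
  have hinvres : ∀ (a : J) (V : Y.Opens) (hV : IsAffineOpen V) (ia : V ≤ a.1.1),
      Proj.map (𝒯.res a.2.1 hV ia) (RelProjLib.irrelevant_le_map_affine 𝒯 a.2.1 hV ia) ≫ tMapInv hj hk a.2.1 a.2.2 =
        tMapInv hj hk hV (a.2.2.restrict ia) ≫
          Proj.map (𝒮.res a.2.1 hV ia) (RelProjLib.irrelevant_le_map_affine 𝒮 a.2.1 hV ia) := fun a V hV ia => by
    have h1 := congrArg (fun t => tMapInv hj hk hV (a.2.2.restrict ia) ≫ t ≫ tMapInv hj hk a.2.1 a.2.2)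
      (tMap_res hj hk a.2.1 a.2.2 hV ia)
    simp only [Category.assoc, tMap_comp, Category.comp_id, reassoc_of% (tMapInv_comp hj hk hV (a.2.2.restrict ia))] at h1
    exact h1.symm
  have hinv : ∀ (a b : J) (V : Y.Opens) (hV : IsAffineOpen V) (ia : V ≤ a.1.1) (ib : V ≤ b.1.1),
      tMapInv hj hk hV (a.2.2.restrict ia) = tMapInv hj hk hV (b.2.2.restrict ib) := fun a b V hV ia ib => by
    have h1 := congrArg (fun t => tMapInv hj hk hV (a.2.2.restrict ia) ≫ t ≫ tMapInv hj hk hV (b.2.2.restrict ib))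
      (htr a b V hV ia ib)
    simp only [tMap_comp, Category.comp_id, reassoc_of% (tMapInv_comp hj hk hV (a.2.2.restrict ia))] at h1
    exact h1.symm
  obtain ⟨Ψ, hΨ⟩ := exists_glueProj hQ (fun a : J => a.1.1) (fun a => a.2.1) hcov
    (fun a => tMapInv hj hk a.2.1 a.2.2 ≫ emb p chart a.1.1 a.2.1)
    (fun a b V hV ia ib => by
      rw [reassoc_of% (hinvres a V hV ia), RelProjLib.map_res_emb_affine 𝒮 hP,
        reassoc_of% (hinvres b V hV ib), RelProjLib.map_res_emb_affine 𝒮 hP, hinv a b V hV ia ib])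
  have h1 : Φ ≫ Ψ = 𝟙 P := by
    refine Scheme.hom_ext_of_forall _ _ fun x => ?_
    obtain ⟨a, ha⟩ := hcov (p x)
    refine ⟨p ⁻¹ᵁ a.1.1, ha, ?_⟩
    rw [← RelProjLib.chart_hom_emb (chart := chart) a.1.1 a.2.1, Category.assoc, Category.assoc,
      reassoc_of% (hΦ a), hΨ a, ← Category.assoc (tMap _ _ _ _), tMap_comp, Category.id_comp, Category.comp_id]
  have h2 : Ψ ≫ Φ = 𝟙 Q := by
    refine Scheme.hom_ext_of_forall _ _ fun x => ?_
    obtain ⟨a, ha⟩ := hcov (q x)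
    refine ⟨q ⁻¹ᵁ a.1.1, ha, ?_⟩
    rw [← RelProjLib.chart_hom_emb (chart := chartQ) a.1.1 a.2.1, Category.assoc, Category.assoc,
      reassoc_of% (hΨ a), hΦ a, ← Category.assoc (tMapInv _ _ _ _), tMapInv_comp, Category.id_comp, Category.comp_id]
  refine ⟨⟨Φ, Ψ, h1, h2⟩, ?_, fun W hW ℓ hl => hΦ ⟨⟨W, ℓ⟩, hW, hl⟩⟩
  refine Scheme.hom_ext_of_forall _ _ fun x => ?_
  obtain ⟨a, ha⟩ := hcov (p x)
  refine ⟨p ⁻¹ᵁ a.1.1, ha, ?_⟩
  rw [← RelProjLib.chart_hom_emb (chart := chart) a.1.1 a.2.1, Category.assoc, Category.assoc, reassoc_of% (hΦ a),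
    RelProjLib.emb_comp hQ a.1.1 a.2.1, RelProjLib.emb_comp hP a.1.1 a.2.1,
    reassoc_of% (tMap_toSpec hj hk a.2.1 a.2.2)]

end Groth.Agent.Swap65

end
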