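import Groth.Agent.Swap65.Frames
import Groth.Agent.SymLib.Grading
import Groth.Agent.AmpleLib.Twist

/-! `Sym(E ⊗ L) → Sym(E)` over a frame of `L`. -/

set_option autoImplicit false
noncomputable section

universe u

open CategoryTheory CategoryTheory.Limits AlgebraicGeometry TopologicalSpace Opposite
open RelProj
open scoped HomogeneousIdeal
open Groth.Agent.Props

namespace Groth.Agent.Swap65

variable {Y : Scheme.{u}} {E L : Y.Modules} [E.IsQuasicoherent] [(CohB1.tensorMod E L).IsQuasicoherent]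
  {𝒮 𝒯 : QCGrAlg Y} {j : E ⟶ 𝒮.toModule} (hj : IsGrSymAlg E 𝒮 j)
  {k : CohB1.tensorMod E L ⟶ 𝒯.toModule} (hk : IsGrSymAlg (CohB1.tensorMod E L) 𝒯 k)

omit [(CohB1.tensorMod E L).IsQuasicoherent] in
include hj in
/-- Induction on the homogeneous elements of a graded symmetric algebra. -/
lemma degInd {W : Y.Opens} (hW : IsAffineOpen W) {P : ℕ → (𝒮.presheaf.obj (op W) : Type u) → Prop}
    (h0 : ∀ r, P 0 ((𝒮.str.app (op W)).hom r))
    (hstep : ∀ d a (m : Γ(E, W)), P d a →
      P (d + 1) (a * (show (𝒮.presheaf.obj (op W) : Type u) from j.app W m)))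
    (hadd : ∀ d a b, P d a → P d b → P d (a + b)) {d : ℕ} {x : (𝒮.presheaf.obj (op W) : Type u)}
    (hx : x ∈ 𝒮.deg W hW d) : P d x := by
  let := (𝒮.str.app (op W)).hom.toAlgebra
  have key : ∀ d, ∀ y ∈ SymLib.piece j W d, P d y := by
    intro d
    induction d with
    | zero =>
      intro y hy
      rw [SymLib.piece, pow_zero, Submodule.mem_one] at hy
      obtain ⟨r, rfl⟩ := hy
      exact h0 r
    | succ d ih =>
      intro y hy
      rw [SymLib.piece, pow_succ] at hy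
      refine Submodule.mul_induction_on hy (fun a ha b hb => ?_) (hadd _)
      obtain ⟨m, rfl⟩ := hb
      exact hstep d a m (ih a ha)
  exact key d x ((SymLib.mem_deg_iff hj hW).1 hx)

variable {W : Y.Opens} (hW : IsAffineOpen W) {ℓ : Γ(L, W)} (hl : GenLocus.IsGen L W ℓ)

omit [E.IsQuasicoherent] [(CohB1.tensorMod E L).IsQuasicoherent] in
include hl in
lemma tmul_frame_bijective : Function.Bijective fun m : Γ(E, W) => GenTensor.tmul m ℓ := by
  have h := AmpleLib.tmul_gen_bijective hl E (le_refl W)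
  rwa [QCoh.res_self] at h

/-- `m ↦ m ⊗ ℓ`. -/
def shEquiv : Γ(E, W) ≃ₗ[Γ(Y, W)] Γ(CohB1.tensorMod E L, W) :=
  LinearEquiv.ofBijective
    { toFun := fun m => GenTensor.tmul m ℓ
      map_add' := fun a b => AmpleLib.tmul_add_left a b ℓ
      map_smul' := fun r m => GenTensor.tmul_smul_left r m ℓ } (tmul_frame_bijective hl)

omit [E.IsQuasicoherent] [(CohB1.tensorMod E L).IsQuasicoherent] in
lemma shEquiv_apply (m : Γ(E, W)) : shEquiv hl m = GenTensor.tmul m ℓ := rfl

/-- `𝒯(W) → 𝒮(W)`, `k(m ⊗ ℓ) ↦ j m`. -/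
def tHom : (𝒯.presheaf.obj (op W) : Type u) →+* 𝒮.presheaf.obj (op W) :=
  (SymLib.affLift j W).comp
    ((SymLib.symMap (RingHom.id Γ(Y, W)) (shEquiv hl).symm.toLinearMap.toAddMonoidHom
      (fun r m => (shEquiv hl).symm.map_smul r m)).comp
        (RingEquiv.ofBijective _ (SymLib.affLift_bijective hk.1 hW)).symm.toRingHom)

omit [E.IsQuasicoherent] in
lemma tHom_str (r : Γ(Y, W)) :
    tHom (j := j) hk hW hl ((𝒯.str.app (op W)).hom r) = (𝒮.str.app (op W)).hom r := by
  have h : (RingEquiv.ofBijective _ (SymLib.affLift_bijective hk.1 hW)).symm ((𝒯.str.app (op W)).hom r) =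
      algebraMap _ _ r := (RingEquiv.symm_apply_eq _).2 (SymLib.affLift_algebraMap k W r).symm
  rw [tHom, RingHom.comp_apply, RingHom.comp_apply, RingEquiv.toRingHom_eq_coe, RingEquiv.coe_toRingHom, h,
    SymLib.symMap_algebraMap, SymLib.affLift_algebraMap, RingHom.id_apply]

omit [E.IsQuasicoherent] in
lemma tHom_k (m : Γ(E, W)) : tHom (j := j) hk hW hl (k.app W (GenTensor.tmul m ℓ)) = j.app W m := by
  have h : (RingEquiv.ofBijective _ (SymLib.affLift_bijective hk.1 hW)).symm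
      (show (𝒯.presheaf.obj (op W) : Type u) from k.app W (GenTensor.tmul m ℓ)) =
      SymmetricAlgebra.ι _ _ (GenTensor.tmul m ℓ) := (RingEquiv.symm_apply_eq _).2 (SymLib.affLift_ι k W _).symm
  refine (congrArg (fun t => SymLib.affLift j W ((SymLib.symMap (RingHom.id Γ(Y, W))
    (shEquiv hl).symm.toLinearMap.toAddMonoidHom (fun r m => (shEquiv hl).symm.map_smul r m)) t)) h).trans ?_
  rw [SymLib.symMap_ι, SymLib.affLift_ι]
  exact congrArg (fun t => j.app W t) ((shEquiv hl).symm_apply_apply m)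

/-- `𝒮(W) → 𝒯(W)`, `j m ↦ k(m ⊗ ℓ)`. -/
def tInv : (𝒮.presheaf.obj (op W) : Type u) →+* 𝒯.presheaf.obj (op W) :=
  (SymLib.affLift k W).comp
    ((SymLib.symMap (RingHom.id Γ(Y, W)) (shEquiv hl).toLinearMap.toAddMonoidHom
      (fun r m => (shEquiv hl).map_smul r m)).comp
        (RingEquiv.ofBijective _ (SymLib.affLift_bijective hj.1 hW)).symm.toRingHom)

omit [(CohB1.tensorMod E L).IsQuasicoherent] in
lemma tInv_str (r : Γ(Y, W)) :
    tInv (k := k) hj hW hl ((𝒮.str.app (op W)).hom r) = (𝒯.str.app (op W)).hom r := by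
  have h : (RingEquiv.ofBijective _ (SymLib.affLift_bijective hj.1 hW)).symm ((𝒮.str.app (op W)).hom r) =
      algebraMap _ _ r := (RingEquiv.symm_apply_eq _).2 (SymLib.affLift_algebraMap j W r).symm
  rw [tInv, RingHom.comp_apply, RingHom.comp_apply, RingEquiv.toRingHom_eq_coe, RingEquiv.coe_toRingHom, h,
    SymLib.symMap_algebraMap, SymLib.affLift_algebraMap, RingHom.id_apply]

omit [(CohB1.tensorMod E L).IsQuasicoherent] in
lemma tInv_j (m : Γ(E, W)) : tInv (k := k) hj hW hl (j.app W m) = k.app W (GenTensor.tmul m ℓ) := by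
  have h : (RingEquiv.ofBijective _ (SymLib.affLift_bijective hj.1 hW)).symm
      (show (𝒮.presheaf.obj (op W) : Type u) from j.app W m) =
      SymmetricAlgebra.ι _ _ m := (RingEquiv.symm_apply_eq _).2 (SymLib.affLift_ι j W _).symm
  refine (congrArg (fun t => SymLib.affLift k W ((SymLib.symMap (RingHom.id Γ(Y, W))
    (shEquiv hl).toLinearMap.toAddMonoidHom (fun r m => (shEquiv hl).map_smul r m)) t)) h).trans ?_
  rw [SymLib.symMap_ι, SymLib.affLift_ι]
  rfl

attribute [irreducible] tHom tInv shEquiv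

include hk hW hl in
lemma tHom_ext {C : Type u} [CommRing C] {f g : (𝒯.presheaf.obj (op W) : Type u) →+* C}
    (h0 : ∀ r, f ((𝒯.str.app (op W)).hom r) = g ((𝒯.str.app (op W)).hom r))
    (h1 : ∀ m : Γ(E, W), f (k.app W (GenTensor.tmul m ℓ)) = g (k.app W (GenTensor.tmul m ℓ))) : f = g := by
  refine RingHom.ext fun a => ?_
  induction a using SymLib.affInduction hk.1 hW with
  | hstr r => exact h0 r
  | hj t =>
    obtain ⟨m, rfl⟩ := (tmul_frame_bijective hl).2 t
    exact h1 m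
  | hmul a b ha hb => rw [map_mul, map_mul, ha, hb]
  | hadd a b ha hb => rw [map_add, map_add, ha, hb]

lemma tInv_tHom (a : (𝒯.presheaf.obj (op W) : Type u)) : tInv (k := k) hj hW hl (tHom (j := j) hk hW hl a) = a := by
  refine RingHom.congr_fun (tHom_ext hk hW hl (f := (tInv (k := k) hj hW hl).comp (tHom (j := j) hk hW hl))
    (g := RingHom.id _) (fun r => ?_) fun m => ?_) a
  · rw [RingHom.comp_apply, RingHom.id_apply, tHom_str, tInv_str]
  · rw [RingHom.comp_apply, RingHom.id_apply, tHom_k, tInv_j]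

lemma tHom_tInv (a : (𝒮.presheaf.obj (op W) : Type u)) : tHom (j := j) hk hW hl (tInv (k := k) hj hW hl a) = a := by
  induction a using SymLib.affInduction hj.1 hW with
  | hstr r => exact (congrArg _ (tInv_str hj hW hl r)).trans (tHom_str hk hW hl r)
  | hj m => exact (congrArg _ (tInv_j hj hW hl m)).trans (tHom_k hk hW hl m)
  | hmul a b ha hb => rw [map_mul, map_mul, ha, hb]
  | hadd a b ha hb => rw [map_add, map_add, ha, hb]

include hj in
lemma tHom_mem {d : ℕ} {x : (𝒯.presheaf.obj (op W) : Type u)} (hx : x ∈ 𝒯.deg W hW d) :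
    tHom (j := j) hk hW hl x ∈ 𝒮.deg W hW d := by
  refine degInd hk hW (P := fun d x => tHom (j := j) hk hW hl x ∈ 𝒮.deg W hW d) (fun r => ?_) (fun d a t ha => ?_)
    (fun d a b ha hb => by rw [map_add]; exact add_mem ha hb) hx
  · rw [tHom_str]; exact 𝒮.str_mem W hW r
  · obtain ⟨m, rfl⟩ := (tmul_frame_bijective hl).2 t
    rw [map_mul]
    refine SetLike.mul_mem_graded (A := 𝒮.deg W hW) ha ?_
    erw [tHom_k]
    exact hj.2 W hW m

include hk in
lemma tInv_mem {d : ℕ} {x : (𝒮.presheaf.obj (op W) : Type u)} (hx : x ∈ 𝒮.deg W hW d) :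
    tInv (k := k) hj hW hl x ∈ 𝒯.deg W hW d := by
  refine degInd hj hW (P := fun d x => tInv (k := k) hj hW hl x ∈ 𝒯.deg W hW d) (fun r => ?_) (fun d a t ha => ?_)
    (fun d a b ha hb => by rw [map_add]; exact add_mem ha hb) hx
  · rw [tInv_str]; exact 𝒯.str_mem W hW r
  · rw [map_mul]
    refine SetLike.mul_mem_graded (A := 𝒯.deg W hW) ha ?_
    erw [tInv_j]
    exact hk.2 W hW _

/-- The graded homomorphism. -/
def psiT : 𝒯.deg W hW →+*ᵍ 𝒮.deg W hW :=
  { tHom (j := j) hk hW hl with map_mem := fun hx => tHom_mem hj hk hW hl hx }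

/-- Its inverse. -/
def chiT : 𝒮.deg W hW →+*ᵍ 𝒯.deg W hW :=
  { tInv (k := k) hj hW hl with map_mem := fun hx => tInv_mem hj hk hW hl hx }

lemma psiT_str (r : Γ(Y, W)) :
    psiT hj hk hW hl ((𝒯.str.app (op W)).hom r) = (𝒮.str.app (op W)).hom r := tHom_str hk hW hl r

lemma psiT_k (m : Γ(E, W)) : psiT hj hk hW hl (k.app W (GenTensor.tmul m ℓ)) = j.app W m := tHom_k hk hW hl m

lemma psiT_irr : (𝒮.deg W hW)₊ ≤ ((𝒯.deg W hW)₊).map (psiT hj hk hW hl) := by
  refine (HomogeneousIdeal.irrelevant_le _).2 fun i hi a ha => ?_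
  rw [← tHom_tInv hj hk hW hl a]
  exact Ideal.mem_map_of_mem _ (HomogeneousIdeal.mem_irrelevant_of_mem _ hi (tInv_mem hj hk hW hl ha))

lemma chiT_irr : (𝒯.deg W hW)₊ ≤ ((𝒮.deg W hW)₊).map (chiT hj hk hW hl) := by
  refine (HomogeneousIdeal.irrelevant_le _).2 fun i hi a ha => ?_
  rw [← tInv_tHom hj hk hW hl a]
  exact Ideal.mem_map_of_mem _ (HomogeneousIdeal.mem_irrelevant_of_mem _ hi (tHom_mem hj hk hW hl ha))

end Groth.Agent.Swap65

end
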