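import Groth.Agent.Swap65.TensorMap
import Groth.Agent.RelTildeLib.TwistPull
import Groth.Agent.ProjBundleLib.Canonical
import Groth.Agent.RelProjLib.ImmCrit

/-! The twisting sheaves under `P(E) ≅ P(E ⊗ L)`. -/

set_option autoImplicit false
noncomputable section

universe u

open CategoryTheory CategoryTheory.Limits AlgebraicGeometry TopologicalSpace Opposite
open RelProj
open scoped HomogeneousIdeal
open Groth.Agent.Props
open Groth.Agent.RelTildeLib Groth.Agent.ProjBundleLib HomogeneousLocalization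

namespace Groth.Agent.Swap65

lemma mk_of_eq_one {A : Type u} [CommRing A] {S : Submonoid A} (a : A) {b : A} (hb : b ∈ S) (h : b = 1) :
    Localization.mk a ⟨b, hb⟩ = algebraMap A (Localization S) a := by
  subst h
  exact Localization.mk_one_eq_algebraMap a

variable {Y P : Scheme.{u}} {E : Y.Modules} [E.IsQuasicoherent] {𝒮 : QCGrAlg Y} {j : E ⟶ 𝒮.toModule}
  (hj : IsGrSymAlg E 𝒮 j) {p : P ⟶ Y}
  {chart : ∀ (U : Y.Opens) (hU : IsAffineOpen U), (((p ⁻¹ᵁ U : P.Opens) : Scheme.{u}) ≅ Proj (𝒮.deg U hU))}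
  (hP : IsRelProj 𝒮 p chart)

include hj hP in
/-- Functions from the base, on a chart. -/
lemma fv_str {U : Y.Opens} (hU : IsAffineOpen U) (r : Γ(Y, U)) (y : ProjectiveSpectrum (𝒮.deg U hU))
    (hy : (emb p chart U hU).base y ∈ p ⁻¹ᵁ U) :
    fv p chart U hU (p.app U r) y hy = algebraMap _ _ ((𝒮.str.app (op U)).hom r) := by
  obtain ⟨e₀, he₀⟩ := exists_el_notMem hj hU y
  have hmem : emb p chart U hU y ∈ Dop j p chart U hU e₀ := ⟨y, he₀, rfl⟩
  have h1 := congrArg (fun c : Γ(P, Dop j p chart U hU e₀) =>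
    (((emb p chart U hU).app _ c :
        GrTwist.O (𝒜 := 𝒮.deg U hU) (op (emb p chart U hU ⁻¹ᵁ Dop j p chart U hU e₀))).1 ⟨y, hmem⟩).val)
    (chartRing_str hj hP U hU e₀ r)
  have h2 := (emb_app_chartRing (p := p) (chart := chart) U hU e₀ _ ⟨y, hmem⟩ he₀).symm.trans h1
  refine (Eq.trans ?_ (h2.trans ?_)).symm
  · simp only [mapId, fromZeroRingHom, RingHom.coe_mk, MonoidHom.coe_mk, OneHom.coe_mk]
    erw [HomogeneousLocalization.map_mk, HomogeneousLocalization.val_mk]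
    exact (Localization.mk_one_eq_algebraMap _).symm
  · have e3 : (emb p chart U hU).app (Dop j p chart U hU e₀) (p.appLE U _ (Dop_le U hU e₀) r) =
        (Proj (𝒮.deg U hU)).presheaf.map
          (homOfLE ((emb p chart U hU).preimage_mono (Dop_le (j := j) (chart := chart) U hU e₀))).op
          ((emb p chart U hU).app (p ⁻¹ᵁ U) (p.app U r)) :=
      ConcreteCategory.congr_hom
        ((emb p chart U hU).naturality (homOfLE (Dop_le (j := j) (chart := chart) U hU e₀)).op) (p.app U r)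
    exact congrArg (fun c : GrTwist.O (𝒜 := 𝒮.deg U hU)
      (op (emb p chart U hU ⁻¹ᵁ Dop j p chart U hU e₀)) => (c.1 ⟨y, hmem⟩).val) e3

include hj hP in
/-- Functions from the base on a smaller chart. -/
lemma fv_str_le {O D : Y.Opens} (hD : IsAffineOpen D) (hDO : D ≤ O) (c : Γ(Y, O))
    (y : ProjectiveSpectrum (𝒮.deg D hD)) (hy : (emb p chart D hD).base y ∈ p ⁻¹ᵁ O) :
    fv p chart D hD (p.app O c) y hy =
      algebraMap _ _ ((𝒮.str.app (op D)).hom (QCoh.rres hDO c)) := by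
  have hy' : (emb p chart D hD).base y ∈ p ⁻¹ᵁ D := RelProjLib.emb_mem_base 𝒮 D hD y
  refine Eq.trans ?_ (fv_str hj hP hD (QCoh.rres hDO c) y hy')
  rw [GenPull.app_rres]
  exact (fv_res D hD (p.preimage_mono hDO) (p.app O c) y hy').symm

variable {L : Y.Modules} [(CohB1.tensorMod E L).IsQuasicoherent] {𝒯 : QCGrAlg Y}
  {k : CohB1.tensorMod E L ⟶ 𝒯.toModule} (hk : IsGrSymAlg (CohB1.tensorMod E L) 𝒯 k)
  {Q : Scheme.{u}} {q : Q ⟶ Y}
  {chartQ : ∀ (U : Y.Opens) (hU : IsAffineOpen U), (((q ⁻¹ᵁ U : Q.Opens) : Scheme.{u}) ≅ Proj (𝒯.deg U hU))}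
  (hQ : IsRelProj 𝒯 q chartQ)

include hj hk hP hQ in
theorem nonempty_twist_iso (hL : PicF.IsInvertible L) (i : P ⟶ Q)
    (hI : ∀ (W : Y.Opens) (hW : IsAffineOpen W) (ℓ : Γ(L, W)) (hl : GenLocus.IsGen L W ℓ),
      emb p chart W hW ≫ i = tMap hj hk hW hl ≫ emb q chartQ W hW)
    {n : ℕ} {OP : P.Modules}
    {lamP : ∀ (U : Y.Opens) (hU : IsAffineOpen U),
      OP ⟶ (Scheme.Modules.pushforward (emb p chart U hU)).obj (GrTwist.twist (𝒮.deg U hU) (n : ℤ))}
    {OQ : Q.Modules}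
    {lamQ : ∀ (U : Y.Opens) (hU : IsAffineOpen U),
      OQ ⟶ (Scheme.Modules.pushforward (emb q chartQ U hU)).obj (GrTwist.twist (𝒯.deg U hU) (n : ℤ))}
    (hOP : IsRelTwist 𝒮 p chart (n : ℤ) OP lamP) (hOQ : IsRelTwist 𝒯 q chartQ (n : ℤ) OQ lamQ) :
    Nonempty ((Scheme.Modules.pullback i).obj OQ ≅
      CohB1.tensorMod OP ((Scheme.Modules.pullback p).obj (CohB1.tensorPow L n))) := by
  have H : ∀ x : P, ∃ (W : Y.Opens) (hW : IsAffineOpen W) (ℓ : Γ(L, W)) (hl : GenLocus.IsGen L W ℓ) (m : Γ(E, W))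
      (W' : P.Opens) (eP : Γ(OP, W'))
      (eQ : Γ(OQ, emb q chartQ W hW ''ᵁ Proj.basicOpen (𝒯.deg W hW) (k.app W (GenTensor.tmul m ℓ))))
      (hle : W' ≤ i ⁻¹ᵁ (emb q chartQ W hW ''ᵁ Proj.basicOpen (𝒯.deg W hW) (k.app W (GenTensor.tmul m ℓ)))),
      x ∈ W' ∧ W' ≤ p ⁻¹ᵁ W ∧ GenLocus.IsGen OP W' eP ∧ GenLocus.IsGen OQ _ eQ ∧
      (∀ y hy, ∃ hb, tv lamP W hW eP y hy =
        Localization.mk ((show (𝒮.presheaf.obj (op W) : Type u) from j.app W m) ^ n) ⟨1, hb⟩) ∧
      ∀ y hy, ∃ hb, tv lamQ W hW eQ y hy =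
        Localization.mk ((show (𝒯.presheaf.obj (op W) : Type u) from k.app W (GenTensor.tmul m ℓ)) ^ n) ⟨1, hb⟩ := fun x => by
    obtain ⟨U, e, hxU, he⟩ := GenLocus.exists_isGen hL (p x)
    obtain ⟨W, hW, hxW, hWU⟩ := exists_isAffineOpen_mem_and_subset (X := Y) (x := p x) (U := U) hxU
    obtain ⟨y, rfl⟩ := exists_emb_eq (chart := chart) W hW hxW
    have hl := he.restrict hWU
    obtain ⟨m, hm⟩ := exists_el_notMem hj hW y
    obtain ⟨eP, hgP, heP⟩ := exists_gen_pow hOP hW (hj.2 W hW m)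
    obtain ⟨eQ, hgQ, heQ⟩ := exists_gen_pow hOQ hW (hk.2 W hW (GenTensor.tmul m (QCoh.res L hWU e)))
    refine ⟨W, hW, _, hl, m, _, eP, eQ, ?_, (mem_image_dPlus_iff _ y).mpr hm, image_le_preimage hW _, hgP, hgQ,
      fun y hy => ?_, fun y hy => ?_⟩
    · rintro _ ⟨z, hz, rfl⟩
      refine ⟨tMap hj hk hW hl z, ?_, (congr($(hI W hW _ hl).base z)).symm⟩
      refine (Proj.mem_basicOpen _ _ _).mpr fun hmem => (Proj.mem_basicOpen _ _ z).mp hz ?_
      have h' : psiT hj hk hW hl (k.app W (GenTensor.tmul m (QCoh.res L hWU e))) ∈ z.asHomogeneousIdeal := hmem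
      rwa [psiT_k] at h'
    · obtain ⟨hb, h⟩ := heP y hy
      simp only [Int.toNat_natCast, Int.toNat_neg_natCast, pow_zero] at h
      exact ⟨_, h⟩
    · obtain ⟨hb, h⟩ := heQ y hy
      simp only [Int.toNat_natCast, Int.toNat_neg_natCast, pow_zero] at h
      exact ⟨_, h⟩
  choose W hW ℓ hl m W' eP eQ hle hxW' hW' hgP hgQ hvP hvQ using H
  let b : ∀ x : P, Γ((Scheme.Modules.pullback p).obj (CohB1.tensorPow L n), W' x) := fun x =>
    QCoh.res _ (hW' x) (GenPull.pb p (GenTensor.pw L (ℓ x) n))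
  obtain ⟨iso, -⟩ := AmpleLib.exists_iso_of_gen W' (fun x _ => Opens.mem_iSup.mpr ⟨x, hxW' x⟩)
    (fun x => QCoh.res _ (hle x) (GenPull.pb i (eQ x)))
    (fun x => (GenPull.isGen_pb i (hgQ x)).restrict (hle x))
    (fun x => GenTensor.tmul (eP x) (b x))
    (fun x => GenTensor.isGen_tmul (hgP x) ((GenPull.isGen_pb p (GenTensor.isGen_pw (hl x) n)).restrict (hW' x)))
    fun x z V hx hz u hu => by
      obtain ⟨a, ha, -⟩ := (hl x).exists_eq (inf_le_left : W x ⊓ W z ≤ W x) (QCoh.res L inf_le_right (ℓ z))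
      have hVY : V ≤ p ⁻¹ᵁ (W x ⊓ W z) := fun t ht => ⟨hW' x (hx ht), hW' z (hz ht)⟩
      let a' : Γ(P, V) := QCoh.rres hVY (p.app _ (a ^ n))
      have hb : QCoh.res _ hz (b z) = a' • QCoh.res _ hx (b x) := by
        have h1 := congrArg (fun t => QCoh.res ((Scheme.Modules.pullback p).obj (CohB1.tensorPow L n)) hVY
          (GenPull.pb p (GenTensor.pw L t n))) ha
        simp only [GenTensor.pw_smul, ← GenTensor.res_pw, GenPull.pb, LFFrame.unitSec_smul, LFFrame.unitSec_res,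
          QCoh.res_smul, QCoh.res_res] at h1
        simp only [b, GenPull.pb, QCoh.res_res]
        exact h1
      rw [GenTensor.res_tmul, GenTensor.res_tmul, hb, GenTensor.tmul_smul_right, ← GenTensor.tmul_smul_left,
        ← GenTensor.tmul_smul_left]
      refine congrArg (fun t => GenTensor.tmul t _) ?_
      set O := emb q chartQ (W x) (hW x) ''ᵁ Proj.basicOpen (𝒯.deg (W x) (hW x)) (k.app (W x) (GenTensor.tmul (m x) (ℓ x))) ⊓
        emb q chartQ (W z) (hW z) ''ᵁ Proj.basicOpen (𝒯.deg (W z) (hW z)) (k.app (W z) (GenTensor.tmul (m z) (ℓ z))) with hO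
      obtain ⟨c, hc, -⟩ := (hgQ x).exists_eq (inf_le_left : O ≤ _) (QCoh.res OQ inf_le_right (eQ z))
      have hVO : V ≤ i ⁻¹ᵁ O := fun t ht ↦ ⟨hle x (hx ht), hle z (hz ht)⟩
      obtain rfl : u = QCoh.rres hVO (i.app O c) := by
        refine ((GenPull.isGen_pb i (hgQ x)).restrict (hle x)).injective hx ?_
        rw [← hu, QCoh.res_res, QCoh.res_res]
        have h1 := congrArg (fun t ↦ QCoh.res ((Scheme.Modules.pullback i).obj OQ) hVO
          (LFFrame.unitSec i OQ O t)) hc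
        rw [LFFrame.unitSec_smul, LFFrame.unitSec_res, LFFrame.unitSec_res, QCoh.res_smul] at h1
        refine Eq.trans ?_ (h1.trans (congrArg _ (QCoh.res_res _ _ _ _)))
        exact (QCoh.res_res _ _ _ _).symm
      refine eq_of_locally_tv hOP _ _ fun t ht ↦ ?_
      obtain ⟨r, s, er, htr⟩ := exists_basicOpen_le_affine_inter (hW x) (hW z) (p t)
        ⟨hW' x (hx ht), hW' z (hz ht)⟩
      have hD := (hW x).basicOpen r
      have iD : Y.basicOpen r ≤ W x := Y.basicOpen_le r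
      have izD : Y.basicOpen r ≤ W z := er ▸ Y.basicOpen_le s
      have hlD := (hl x).restrict iD
      have heq := hI _ hD _ hlD
      refine ⟨_, hD, htr, fun y hy ↦ ?_⟩
      have hyQ := emb_map_mem (O := O) heq y (hVO hy)
      obtain ⟨_, a1⟩ := tv_mk_basic hOQ hQ (hW x) hD iD r rfl (eQ x) _ _ (hvQ x) _ hyQ.1
      obtain ⟨_, a2⟩ := tv_mk_basic hOQ hQ (hW z) hD izD s er.symm (eQ z) _ _ (hvQ z) _ hyQ.2
      obtain ⟨_, b1⟩ := tv_mk_basic hOP hP (hW x) hD iD r rfl (eP x) _ _ (hvP x) y (hx hy)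
      obtain ⟨_, b2⟩ := tv_mk_basic hOP hP (hW z) hD izD s er.symm (eP z) _ _ (hvP z) y (hz hy)
      have hQ2 := congrArg (fun t ↦ tv lamQ _ hD t _ hyQ) hc
      rw [tv_res, tv_smul, tv_res, a1, a2] at hQ2
      have key := congrArg (GrTwist.locMap (psiT hj hk hD hlD) (psiT_irr hj hk hD hlD) y) hQ2
      rw [map_mul, GrTwist.locMap_mk, GrTwist.locMap_mk] at key
      have eQx : psiT hj hk hD hlD ((𝒯.presheaf.map (homOfLE iD).op).hom
          (k.app (W x) (GenTensor.tmul (m x) (ℓ x)))) = (𝒮.presheaf.map (homOfLE iD).op).hom (j.app (W x) (m x)) :=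
        ((psiT_res hj hk (hW x) (hl x) hD iD _).symm.trans
          (congrArg _ (psiT_k hj hk (hW x) (hl x) (m x))))
      have eQz : psiT hj hk hD hlD ((𝒯.presheaf.map (homOfLE izD).op).hom
          (k.app (W z) (GenTensor.tmul (m z) (ℓ z)))) =
          (𝒮.str.app (op (Y.basicOpen r))).hom (QCoh.rres (le_inf iD izD) a) *
            (𝒮.presheaf.map (homOfLE izD).op).hom (j.app (W z) (m z)) := by
        have e1 : (𝒯.presheaf.map (homOfLE izD).op).hom (k.app (W z) (GenTensor.tmul (m z) (ℓ z))) =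
            k.app _ (GenTensor.tmul (QCoh.res E izD (m z)) (QCoh.res L izD (ℓ z))) :=
          (QCoh.app_res k izD _).symm.trans (congrArg (k.app _) (GenTensor.res_tmul izD _ _))
        have e2 : QCoh.res L izD (ℓ z) = QCoh.rres (le_inf iD izD) a • QCoh.res L iD (ℓ x) := by
          have h2 := congrArg (QCoh.res L (le_inf iD izD)) ha
          simpa only [QCoh.res_smul, QCoh.res_res] using h2
        have e3 := congrArg (fun t => psiT hj hk hD hlD (k.app _ (GenTensor.tmul (QCoh.res E izD (m z)) t))) e2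
        rw [e1, e3, GenTensor.tmul_smul_right, ← GenTensor.tmul_smul_left]
        refine (psiT_k hj hk hD hlD _).trans ((Scheme.Modules.Hom.app_smul j _ _).trans ?_)
        exact congrArg (_ * ·) (QCoh.app_res j izD (m z))
      simp only [map_pow, map_one, eQx, eQz] at key
      have nP : ∀ (g : (𝒮.presheaf.obj (op (Y.basicOpen r)) : Type u)) (hb : (1 : (𝒮.presheaf.obj (op (Y.basicOpen r)) : Type u)) ∈ y.asHomogeneousIdeal.toIdeal.primeCompl),
          Localization.mk g ⟨1, hb⟩ = algebraMap _ (GrTwist.Loc (𝒮.deg _ hD) y) g :=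
        fun g hb => mk_of_eq_one g hb rfl
      rw [tv_smul, tv_smul, tv_res, tv_res, fv_res, fv_res, fv_map heq c y, b1, b2,
        fv_str_le hj hP hD (le_inf iD izD) (a ^ n) y]
      simp only [map_pow, map_one, nP] at key ⊢
      simpa only [map_mul, map_pow, mul_pow] using key
  exact ⟨iso⟩

end Groth.Agent.Swap65

end
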